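import Cfsg.Agent.Lib.U43InU62.Classify
import Mathlib.FieldTheory.Finite.GaloisField

/-!
The three classes of 3.U4(3) in the special unitary group of dimension six over four elements.
-/

set_option autoImplicit false
set_option maxRecDepth 100000

namespace Cfsg.Agent.U43InU62

open Cfsg.Agent.RigidGraph.He
open Matrix

theorem Param.center_eq {K : Subgroup S6} (p : Param K) : Subgroup.center ↥K = Z.subgroupOf K := by
  refine le_antisymm (fun x hx => ?_) fun x hx => Subgroup.mem_center_iff.2 fun g =>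
    Subtype.ext (Subgroup.mem_center_iff.1 hx g.1)
  rw [← p.ker, MonoidHom.mem_ker, ← Subgroup.mem_bot, ← gen_center, Subgroup.mem_center_iff]
  intro g
  obtain ⟨g, rfl⟩ := p.surj g
  rw [← map_mul, ← map_mul, Subgroup.mem_center_iff.1 hx g]

theorem Param.props {F9 : Type} [Field F9] [Fintype F9] (h9 : Fintype.card F9 = 9) {K : Subgroup S6} (p : Param K) :
    Nat.card ↥(Subgroup.center ↥K) = 3 ∧ Nonempty (↥K ⧸ Subgroup.center ↥K ≃* Cfsg.PSU 4 F9 3) := by
  obtain ⟨e⟩ := exists_gen_equiv (F := F9) h9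
  refine ⟨by rw [p.center_eq, Nat.card_congr (Subgroup.subgroupOfEquivOfLe p.hZ).toEquiv, card_Z], ⟨?_⟩⟩
  exact ((QuotientGroup.quotientMulEquivOfEq (p.center_eq.trans p.ker.symm)).trans
    (QuotientGroup.quotientKerEquivOfSurjective p.ρ p.surj)).trans e.symm

theorem exists_param {F9 : Type} [Field F9] [Fintype F9] (h9 : Fintype.card F9 = 9) {K : Subgroup S6}
    (hc : Nat.card ↥(Subgroup.center ↥K) = 3)
    (hq : Nonempty (↥K ⧸ Subgroup.center ↥K ≃* Cfsg.PSU 4 F9 3)) : Nonempty (Param K) := by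
  obtain ⟨q⟩ := hq
  obtain ⟨e⟩ := exists_gen_equiv (F := F9) h9
  have hcard : Nat.card ↥K = 9797760 := by
    rw [Subgroup.card_eq_card_quotient_mul_card_subgroup (Subgroup.center ↥K), hc,
      Nat.card_congr (q.trans e).toEquiv, card_Gen]
  have hZK : Z ≤ K := by
    by_contra hn
    have hbot : ∀ x ∈ Z, x ∈ K → x = 1 := fun x hx hxK => by
      by_contra h1
      refine hn ?_
      have hle : Subgroup.zpowers x ≤ Z ⊓ K := Subgroup.zpowers_le.2 ⟨hx, hxK⟩
      have h3 := Subgroup.card_dvd_of_le (inf_le_left : Z ⊓ K ≤ Z)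
      rw [card_Z] at h3
      rcases (Nat.dvd_prime Nat.prime_three).1 h3 with h | h
      · exact absurd (Subgroup.mem_bot.1 (Subgroup.eq_bot_of_card_eq _ h ▸ hle (Subgroup.mem_zpowers x))) h1
      · exact inf_eq_left.1 (Subgroup.eq_of_le_of_card_ge inf_le_left (by rw [h, card_Z]))
    let f : ↥K × ↥Z →* S6 :=
      { toFun := fun y => y.1.1 * y.2.1
        map_one' := by simp
        map_mul' := fun a b => by
          show a.1.1 * b.1.1 * (a.2.1 * b.2.1) = a.1.1 * a.2.1 * (b.1.1 * b.2.1)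
          rw [mul_assoc, ← mul_assoc b.1.1, Subgroup.mem_center_iff.1 a.2.2 b.1.1]
          simp [mul_assoc] }
    have hf : Function.Injective f := (injective_iff_map_eq_one f).2 fun y hy => by
      have hy' : y.1.1 * y.2.1 = 1 := hy
      have h1 : y.1.1 ∈ Z := by rw [eq_inv_of_mul_eq_one_left hy']; exact inv_mem y.2.2
      have h2 := hbot _ h1 y.1.2
      rw [h2, one_mul] at hy'
      exact Prod.ext (Subtype.ext h2) (Subtype.ext hy')
    have hd := Subgroup.card_subgroup_dvd_card f.range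
    rw [← Nat.card_congr (MonoidHom.ofInjective hf).toEquiv, Nat.card_prod, hcard, card_Z] at hd
    obtain ⟨m, hm, h3⟩ := card_S6
    rw [hm, show 9797760 * 3 = 3 ^ 7 * (4480 * 3) by norm_num] at hd
    exact h3 ((Dvd.intro_left _ rfl).trans (Nat.dvd_of_mul_dvd_mul_left (by norm_num) hd))
  have hle : Z.subgroupOf K ≤ Subgroup.center ↥K := fun x hx => Subgroup.mem_center_iff.2 fun g =>
    Subtype.ext (Subgroup.mem_center_iff.1 hx g.1)
  have hk : Nat.card ↥(Z.subgroupOf K) = 3 := (Nat.card_congr (Subgroup.subgroupOfEquivOfLe hZK).toEquiv).trans card_Z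
  have hcen : Subgroup.center ↥K = Z.subgroupOf K := (Subgroup.eq_of_le_of_card_ge hle (by rw [hk, hc])).symm
  exact ⟨⟨(q.trans e).toMonoidHom.comp (QuotientGroup.mk' _),
    (q.trans e).surjective.comp (QuotientGroup.mk'_surjective _), hZK, by
      ext x
      rw [← hcen, MonoidHom.mem_ker, ← QuotientGroup.eq_one_iff x]
      exact (q.trans e).map_eq_one_iff⟩⟩

theorem twS_twS {a b : K4} (ha : a ≠ 0) (hb : b ≠ 0) (H : Subgroup S6) :
    twS ha (twS hb H) = twS (mul_ne_zero ha hb) H := by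
  rw [twS, twS, twS, Subgroup.map_map]
  congr 1
  exact MonoidHom.ext fun g => tw_tw ha hb g

theorem twS_cj {a : K4} (ha : a ≠ 0) (u : S6) (H : Subgroup S6) : twS ha (cj u H) = cj (tw ha u) (twS ha H) := by
  rw [twS, cj, cj, twS, Subgroup.map_map, Subgroup.map_map]
  congr 1
  refine MonoidHom.ext fun g => ?_
  show twAut ha (u * g * u⁻¹) = twAut ha u * twAut ha g * (twAut ha u)⁻¹
  rw [map_mul, map_mul, map_inv]

theorem twS_ne {a b : K4} (ha : a ≠ 0) (hb : b ≠ 0) (hab : a ≠ b) (u : S6) : cj u (twS ha K0) ≠ twS hb K0 := by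
  intro h
  have h2 := congrArg (twS (inv_ne_zero ha)) h
  rw [twS_cj, twS_twS, twS_twS] at h2
  have h1 : ∀ (hh : a⁻¹ * a ≠ 0), twS hh K0 = K0 := fun hh => by
    have : (twAut hh).toMonoidHom = MonoidHom.id S6 := MonoidHom.ext fun g => by
      show tw hh g = g
      rw [tw_congr hh one_ne_zero (inv_mul_cancel₀ ha), tw_one_arg]
    rw [twS, this, Subgroup.map_id]
  rw [h1] at h2
  exact twist_distinct (mul_ne_zero (inv_ne_zero ha) hb)
    (fun e => hab (inv_inj.1 (eq_inv_of_mul_eq_one_left e))) _ h2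

theorem three_classes {F9 : Type} [Field F9] [Fintype F9] (h9 : Fintype.card F9 = 9) :
    ∃ K₁ K₂ K₃ : Subgroup S6, (∀ K ∈ [K₁, K₂, K₃], Nat.card ↥(Subgroup.center ↥K) = 3 ∧
        Nonempty (↥K ⧸ Subgroup.center ↥K ≃* Cfsg.PSU 4 F9 3)) ∧
      (∀ u, cj u K₁ ≠ K₂) ∧ (∀ u, cj u K₁ ≠ K₃) ∧ (∀ u, cj u K₂ ≠ K₃) ∧
      ∀ K : Subgroup S6, Nat.card ↥(Subgroup.center ↥K) = 3 →
        Nonempty (↥K ⧸ Subgroup.center ↥K ≃* Cfsg.PSU 4 F9 3) →
        ∃ g, cj g K = K₁ ∨ cj g K = K₂ ∨ cj g K = K₃ := by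
  have hl : K4.l ≠ 0 := by decide
  have hw : K4.w ≠ 0 := by decide
  have hv : K4.v ≠ 0 := by decide
  refine ⟨twS hl K0, twS hw K0, twS hv K0, ?_, twS_ne hl hw (by decide), twS_ne hl hv (by decide),
    twS_ne hw hv (by decide), fun K h1 h2 => ?_⟩
  · intro K hK
    simp only [List.mem_cons, List.not_mem_nil, or_false] at hK
    rcases hK with rfl | rfl | rfl <;> exact (param0.map (twAut _)).props h9
  · obtain ⟨p⟩ := exists_param h9 h1 h2
    obtain ⟨g, c, hc, e⟩ := classify p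
    refine ⟨g, ?_⟩
    cases c with
    | o => exact absurd rfl hc
    | l => exact Or.inl e
    | w => exact Or.inr (Or.inl e)
    | v => exact Or.inr (Or.inr e)

/-- The special unitary group depends on the field only up to isomorphism. -/
theorem nonempty_congr {F : Type*} [Field F] (e : F ≃+* K4) : Nonempty (↥(Cfsg.SU 6 F 2) ≃* S6) := by
  have hh : ∀ (A : SpecialLinearGroup (Fin 6) F) (u : Fin 6 → F),
      (Cfsg.slToMat 6 K4 (SpecialLinearGroup.map e.toRingHom A)).mulVec (fun i => e (u i)) =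
      fun i => e ((Cfsg.slToMat 6 F A).mulVec u i) := by
    intro A u
    funext i
    show ((SpecialLinearGroup.map e.toRingHom A : SpecialLinearGroup (Fin 6) K4) :
        Matrix (Fin 6) (Fin 6) K4).mulVec (fun i => e (u i)) i = e ((A : Matrix (Fin 6) (Fin 6) F).mulVec u i)
    simp [Matrix.mulVec, dotProduct, map_sum]
  have hform : ∀ u v : Fin 6 → F, Cfsg.hermForm 6 K4 2 (fun i => e (u i)) (fun i => e (v i)) =
      e (Cfsg.hermForm 6 F 2 u v) := fun u v => by simp [Cfsg.hermForm, map_sum]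
  have hinv : ∀ A : SpecialLinearGroup (Fin 6) F,
      SpecialLinearGroup.map e.toRingHom A ∈ Cfsg.SU 6 K4 2 ↔ A ∈ Cfsg.SU 6 F 2 := by
    intro A
    constructor
    · intro h u v
      refine e.injective ?_
      rw [← hform, ← hform]
      have h' := h (fun i => e (u i)) (fun i => e (v i))
      change Cfsg.hermForm 6 K4 2 (Matrix.mulVec _ _) (Matrix.mulVec _ _) = _ at h'
      rw [hh, hh] at h'
      exact h'
    · intro h u v
      have eu : ∀ w : Fin 6 → K4, (fun i => e (e.symm (w i))) = w := fun w => funext fun i => e.apply_symm_apply _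
      rw [← eu u, ← eu v]
      show Cfsg.hermForm 6 K4 2 (Matrix.mulVec _ _) (Matrix.mulVec _ _) = _
      rw [hh, hh, hform, hform]
      exact congrArg e (h _ _)
  let f : ↥(Cfsg.SU 6 F 2) →* S6 :=
    ((SpecialLinearGroup.map e.toRingHom).comp (Cfsg.SU 6 F 2).subtype).codRestrict _
      fun A => (hinv _).2 A.2
  have hb : Function.Bijective f := by
    constructor
    · intro A B h
      refine Subtype.ext ?_
      ext i j
      have h1 := congrArg (fun X : S6 => e.symm ((X.1 : Matrix (Fin 6) (Fin 6) K4) i j)) h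
      simpa [f] using h1
    · intro B
      refine ⟨⟨SpecialLinearGroup.map e.symm.toRingHom B.1, (hinv _).1 ?_⟩, Subtype.ext ?_⟩
      · rw [show SpecialLinearGroup.map e.toRingHom (SpecialLinearGroup.map e.symm.toRingHom B.1) = B.1 by
          ext i j; simp]
        exact B.2
      · ext i j; simp [f]
  exact ⟨MulEquiv.ofBijective f hb⟩

theorem quot_congr {A B : Type*} [Group A] [Group B] (e : A ≃* B) : Nonempty (A ⧸ Subgroup.center A ≃* B ⧸ Subgroup.center B) := by
  refine ⟨QuotientGroup.congr _ _ e ?_⟩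
  ext x
  refine Subgroup.mem_map_equiv.trans ?_
  refine ⟨fun h => Subgroup.mem_center_iff.2 fun g => ?_, fun h => Subgroup.mem_center_iff.2 fun g => ?_⟩
  · simpa using congrArg e (Subgroup.mem_center_iff.1 h (e.symm g))
  · simpa using congrArg e.symm (Subgroup.mem_center_iff.1 h (e g))

theorem card_center_congr {A B : Type*} [Group A] [Group B] (e : A ≃* B) :
    Nat.card (Subgroup.center A) = Nat.card (Subgroup.center B) :=
  Nat.card_congr (Subgroup.centerCongr e).toEquiv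

theorem classes_transfer {A : Type*} [Group A] (E : A ≃* S6) {F9 : Type} [Field F9] [Fintype F9]
    (h9 : Fintype.card F9 = 9) :
    ∃ K₁ K₂ K₃ : Subgroup A, (∀ K ∈ [K₁, K₂, K₃], Nat.card ↥(Subgroup.center ↥K) = 3 ∧
        Nonempty (↥K ⧸ Subgroup.center ↥K ≃* Cfsg.PSU 4 F9 3)) ∧
      (¬ ∃ g : A, K₁.map (MulAut.conj g).toMonoidHom = K₂) ∧ (¬ ∃ g : A, K₁.map (MulAut.conj g).toMonoidHom = K₃) ∧
      (¬ ∃ g : A, K₂.map (MulAut.conj g).toMonoidHom = K₃) ∧
      ∀ K : Subgroup A, Nat.card ↥(Subgroup.center ↥K) = 3 →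
        Nonempty (↥K ⧸ Subgroup.center ↥K ≃* Cfsg.PSU 4 F9 3) →
        ∃ g : A, K.map (MulAut.conj g).toMonoidHom = K₁ ∨ K.map (MulAut.conj g).toMonoidHom = K₂ ∨
          K.map (MulAut.conj g).toMonoidHom = K₃ := by
  obtain ⟨L1, L2, L3, hp, h12, h13, h23, hall⟩ := three_classes h9
  let T : Subgroup A → Subgroup S6 := fun K => K.map E.toMonoidHom
  let T' : Subgroup S6 → Subgroup A := fun K => K.map E.symm.toMonoidHom
  have hTT' : ∀ L, T (T' L) = L := fun L => by
    show (L.map E.symm.toMonoidHom).map E.toMonoidHom = L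
    rw [Subgroup.map_map, show E.toMonoidHom.comp E.symm.toMonoidHom = MonoidHom.id S6 from MonoidHom.ext fun x => E.apply_symm_apply x,
      Subgroup.map_id]
  have hTinj : Function.Injective T := Subgroup.map_injective E.injective
  have hconj : ∀ (g : A) (K : Subgroup A), T (K.map (MulAut.conj g).toMonoidHom) = cj (E g) (T K) := fun g K => by
    show (K.map (MulAut.conj g).toMonoidHom).map E.toMonoidHom = (K.map E.toMonoidHom).map (MulAut.conj (E g)).toMonoidHom
    rw [Subgroup.map_map, Subgroup.map_map]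
    congr 1
    refine MonoidHom.ext fun x => ?_
    show E (g * x * g⁻¹) = E g * E x * (E g)⁻¹
    rw [map_mul, map_mul, map_inv]
  have hne : ∀ L L', (∀ u, cj u L ≠ L') → ¬ ∃ g : A, (T' L).map (MulAut.conj g).toMonoidHom = T' L' := by
    rintro L L' h ⟨g, hg⟩
    have := congrArg T hg
    rw [hconj, hTT', hTT'] at this
    exact h _ this
  have hP : ∀ K : Subgroup A, (Nat.card ↥(Subgroup.center ↥K) = 3 ↔ Nat.card ↥(Subgroup.center ↥(T K)) = 3) ∧
      (Nonempty (↥K ⧸ Subgroup.center ↥K ≃* Cfsg.PSU 4 F9 3) ↔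
        Nonempty (↥(T K) ⧸ Subgroup.center ↥(T K) ≃* Cfsg.PSU 4 F9 3)) := fun K => by
    have e : ↥K ≃* ↥(T K) := E.subgroupMap K
    obtain ⟨q⟩ := quot_congr e
    exact ⟨by rw [card_center_congr e], ⟨fun ⟨x⟩ => ⟨q.symm.trans x⟩, fun ⟨x⟩ => ⟨q.trans x⟩⟩⟩
  refine ⟨T' L1, T' L2, T' L3, ?_, hne _ _ h12, hne _ _ h13, hne _ _ h23, fun K h1 h2 => ?_⟩
  · intro K hK
    simp only [List.mem_cons, List.not_mem_nil, or_false] at hK
    have key : ∀ L, L ∈ [L1, L2, L3] → Nat.card ↥(Subgroup.center ↥(T' L)) = 3 ∧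
        Nonempty (↥(T' L) ⧸ Subgroup.center ↥(T' L) ≃* Cfsg.PSU 4 F9 3) := fun L hL => by
      refine ⟨(hP _).1.2 ?_, (hP _).2.2 ?_⟩ <;> rw [hTT']
      exacts [(hp L hL).1, (hp L hL).2]
    rcases hK with rfl | rfl | rfl <;> exact key _ (by simp)
  · obtain ⟨g, hg⟩ := hall (T K) ((hP K).1.1 h1) ((hP K).2.1 h2)
    refine ⟨E.symm g, ?_⟩
    have e : ∀ L, cj g (T K) = L → K.map (MulAut.conj (E.symm g)).toMonoidHom = T' L := fun L hL => hTinj (by
      rw [hconj, E.apply_symm_apply, hTT', hL])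
    exact hg.imp (e _) (Or.imp (e _) (e _))

end Cfsg.Agent.U43InU62
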