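import Cfsg.Agent.Lib.U43InU62.Stab
import Cfsg.Agent.Lib.SchurMult.U43Hom
import Cfsg.Agent.Lib.Classical.UnitaryStd

/-!
The subgroup acting on the frames: order, scalars, simplicity modulo scalars, the outer swap.
-/

set_option autoImplicit false
set_option maxRecDepth 100000

namespace Cfsg.Agent.U43InU62

open Cfsg.Agent.RigidGraph.He
open Cfsg.Agent.PermCert
open Cfsg.Agent.SchurMult (u43Gens u43Derived u43Levels u43_cert u43_order)
open Matrix

/-- The centre. -/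
abbrev Z : Subgroup S6 := Subgroup.center S6

theorem card_Z : Nat.card ↥Z = 3 := by
  obtain ⟨σ, hσ, hne, hinv, hq, -⟩ := HermStd.exists_sigma (q := 2) (F := K4) (by rw [K4.card_K4]; norm_num)
  rw [HermSU.card_center_SU hne hinv hσ (by norm_num) hq]
  rfl

theorem card_S6 : ∃ m : ℕ, Nat.card S6 = 3 ^ 7 * m ∧ ¬ 3 ∣ m := by
  obtain ⟨σ, hσ, hne, hinv, hq, -⟩ := HermStd.exists_sigma (q := 2) (F := K4) (by rw [K4.card_K4]; norm_num)
  have h := HermSU.card_PSU_mul hne hinv hσ (show 2 ≤ 6 by norm_num) hq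
  rw [HermStd.card_GU hne hinv hσ 6 hq] at h
  simp [Finset.prod_range_succ, Nat.even_iff] at h
  refine ⟨2 ^ 15 * 5 * 7 * 11, ?_, by norm_num⟩
  rw [Subgroup.card_eq_card_quotient_mul_card_subgroup Z, card_Z]
  change Nat.card (Cfsg.PSU 6 K4 2) * 3 = _
  omega

/-- A scalar diagonal. -/
theorem scalar_central (d : Dg) (hd : ∀ k, d.1 k = d.1 0) : mel 1 d ∈ Z := by
  have h : ∀ v, act (mel 1 d) v = d.1 0 • v := fun v => funext fun i => by
    rw [act_mel, Pi.smul_apply, smul_eq_mul, hd]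
    rfl
  exact Subgroup.mem_center_iff.2 fun g => ext_bv fun j => by rw [act_mul, act_mul, h, h, act_smul]

/-- The three constants. -/
def constD : Fin 3 → Dg
  | 0 => ⟨fun _ => .l, by decide +kernel⟩
  | 1 => ⟨fun _ => .w, by decide +kernel⟩
  | 2 => ⟨fun _ => .v, by decide +kernel⟩

theorem constD_ok : ∀ k, (∀ j, (constD k).1 j = (constD k).1 0) ∧ ∀ k', (constD k).1 0 = (constD k').1 0 → k = k' := by
  decide +kernel

theorem mem_Z_iff {g : S6} : g ∈ Z ↔ ∃ d : Dg, (∀ k, d.1 k = d.1 0) ∧ g = mel 1 d := by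
  refine ⟨fun hg => ?_, fun ⟨d, hd, e⟩ => e ▸ scalar_central d hd⟩
  let f : Fin 3 → ↥Z := fun k => ⟨mel 1 (constD k), scalar_central _ (constD_ok k).1⟩
  have hf : Function.Injective f := fun a b e =>
    (constD_ok a).2 b (congrFun (congrArg Subtype.val (mel_inj (congrArg Subtype.val e)).2) 0)
  have hb : Function.Bijective f :=
    (Nat.bijective_iff_injective_and_card f).2 ⟨hf, by rw [Nat.card_fin, card_Z]⟩
  obtain ⟨k, hk⟩ := hb.2 ⟨g, hg⟩
  exact ⟨constD k, (constD_ok k).1, (congrArg Subtype.val hk).symm⟩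

theorem Z_le_Ad : Z ≤ Ad := fun g hg => by
  obtain ⟨d, -, rfl⟩ := mem_Z_iff.1 hg
  exact mem_Ad.2 ⟨d, rfl⟩

theorem Z_le_K0 : Z ≤ K0 := (Z_le_Ad.trans Ad_le_N0).trans N0_le_K0

theorem moves_Z {g : S6} (hg : g ∈ Z) : Moves g 1 := by
  obtain ⟨d, hd, rfl⟩ := mem_Z_iff.1 hg
  rintro i _ ⟨a, c, hc, rfl⟩
  refine ⟨a, c * d.1 0, mul_ne_zero hc (d.2.1 0), funext fun k => ?_⟩
  rw [act_mel, hd]
  simp only [Equiv.Perm.one_apply, Pi.smul_apply, smul_eq_mul]
  rw [show (Equiv.symm (1 : Equiv.Perm (Fin 6))) k = k from rfl]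
  ring

theorem splits_perm : ∀ π : Equiv.Perm (Fin 6), (∀ t : Fin 10, ∀ a, ∃ b, ∀ k,
    (fr (Fin.ofNat 112 (splitList.getD t 0)) b (π k) = 0 ↔ fr (Fin.ofNat 112 (splitList.getD t 0)) a k = 0)) →
    π = 1 := by decide +kernel

theorem splits_diag : ∀ d : Dg, (∀ t : Fin 10, ∀ a, ∃ b,
    nv (fun k => d.1 k * fr (Fin.ofNat 112 (splitList.getD t 0)) a k) = fr (Fin.ofNat 112 (splitList.getD t 0)) b) →
    ∀ k, d.1 k = d.1 0 := by decide +kernel

/-- Only scalars fix every frame. -/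
theorem eq_scalar {g : S6} (h : Moves g 1) : g ∈ Z := by
  obtain ⟨π, d, rfl⟩ := exists_mel (g := g) fun j => by
    obtain ⟨a, c, -, e⟩ := h base _ (bv_mem j)
    exact ⟨a, c, e.trans (by rw [show (1 : Equiv.Perm (Fin 112)) base = base from rfl, fr_base_eq])⟩
  obtain rfl : π = 1 := splits_perm π fun t a => by
    obtain ⟨b, c, hc, e⟩ := h _ _ (fr_mem (Fin.ofNat 112 (splitList.getD t 0)) a)
    refine ⟨b, fun k => ?_⟩
    have := congrFun e (π k)
    rw [act_mel, Equiv.symm_apply_apply, Pi.smul_apply, smul_eq_mul, Equiv.Perm.one_apply] at this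
    constructor
    · intro h0; rw [h0, mul_zero] at this; exact (mul_eq_zero.1 this).resolve_left (d.2.1 k)
    · intro h0; rw [h0, mul_zero] at this; exact (mul_eq_zero.1 this.symm).resolve_left hc
  refine scalar_central d (splits_diag d fun t a => ?_)
  obtain ⟨b, c, hc, e⟩ := h _ _ (fr_mem (Fin.ofNat 112 (splitList.getD t 0)) a)
  refine ⟨b, ?_⟩
  rw [show (fun k => d.1 k * fr (Fin.ofNat 112 (splitList.getD t 0)) a k) = c • fr (Fin.ofNat 112 (splitList.getD t 0)) b from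
    (funext fun k => (act_mel 1 d _ k).symm).trans e, nv_smul hc, (fr_ok _ b).1]

theorem psi_ker : ψ.ker = Z.subgroupOf K0 := by
  ext g
  rw [MonoidHom.mem_ker, Subgroup.mem_subgroupOf]
  refine ⟨fun h => eq_scalar ?_, fun h => Subtype.ext (psi_eq g.2 (moves_Z h))⟩
  have := psi_spec g
  rwa [h] at this

theorem ab_checks : (matA.det = 1 ∧ matAᵀ * matA.map (fun x => x * x) = 1 ∧
      MapsCode matA (u43Gens.getD 0 (0, 0)) ∧ validElt 7 112 (u43Gens.getD 0 (0, 0)) = true) ∧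
    (matB.det = 1 ∧ matBᵀ * matB.map (fun x => x * x) = 1 ∧
      MapsCode matB (u43Gens.getD 1 (0, 0)) ∧ validElt 7 112 (u43Gens.getD 1 (0, 0)) = true) := by decide +kernel

theorem psi_surjective : Function.Surjective ψ := by
  have key : ∀ e : Elt, e ∈ u43Gens → ∀ M, M.det = 1 → Mᵀ * M.map (fun x => x * x) = 1 → MapsCode M e →
      validElt 7 112 e = true → ∃ g : ↥K0, (ψ g).1 = toPerm 7 112 e := by
    intro e he M hd hu hm hv
    obtain ⟨g, hg⟩ := exists_mem_of_unitary M hd hu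
    have hmv := moves_of_code hg hv hm
    exact ⟨⟨g, _, Subgroup.subset_closure (List.mem_map.2 ⟨e, he, rfl⟩), hmv⟩, psi_eq _ hmv⟩
  have hle : Gen ≤ ψ.range.map Gen.subtype := by
    refine (Subgroup.closure_le _).2 fun π hπ => ?_
    obtain ⟨e, he, rfl⟩ := List.mem_map.1 hπ
    have he' := he
    rw [show u43Gens = [u43Gens.getD 0 (0, 0), u43Gens.getD 1 (0, 0)] from rfl] at he'
    simp only [List.mem_cons, List.not_mem_nil, or_false] at he'
    rcases he' with rfl | rfl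
    · obtain ⟨g, hg⟩ := key _ he matA ab_checks.1.1 ab_checks.1.2.1 ab_checks.1.2.2.1 ab_checks.1.2.2.2
      exact ⟨ψ g, ⟨g, rfl⟩, hg⟩
    · obtain ⟨g, hg⟩ := key _ he matB ab_checks.2.1 ab_checks.2.2.1 ab_checks.2.2.2.1 ab_checks.2.2.2.2
      exact ⟨ψ g, ⟨g, rfl⟩, hg⟩
  intro x
  obtain ⟨y, ⟨g, rfl⟩, e⟩ := hle x.2
  exact ⟨g, Subtype.ext e⟩

theorem card_K0 : Nat.card ↥K0 = 9797760 := by
  rw [Subgroup.card_eq_card_quotient_mul_card_subgroup ψ.ker,
    Nat.card_congr (QuotientGroup.quotientKerEquivOfSurjective ψ psi_surjective).toEquiv, card_Gen, psi_ker,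
    Nat.card_congr (Subgroup.subgroupOfEquivOfLe Z_le_K0).toEquiv, card_Z]

theorem exists_gen_equiv : ∀ {F : Type} [Field F] [Fintype F], Fintype.card F = 9 →
    Nonempty (Cfsg.PSU 4 F 3 ≃* ↥Gen) := by
  intro F _ _ hF
  obtain ⟨φ, hr, hk, -⟩ := SchurMult.exists_u43_hom hF
  exact ⟨((QuotientGroup.quotientMulEquivOfEq hk.symm).trans (QuotientGroup.quotientKerEquivRange φ)).trans
    (MulEquiv.subgroupCongr hr)⟩

theorem gen_simple : IsSimpleGroup ↥Gen := by
  have hK : Fintype.card SchurMult.K9 = 9 := SchurMult.K9.card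
  obtain ⟨e⟩ := exists_gen_equiv (F := SchurMult.K9) hK
  obtain ⟨σ, -, hf, -⟩ := UnitaryStd.exists_setup (F := SchurMult.K9) (q := 3) (n := 4) (by rw [hK]; norm_num) (by norm_num)
  have := UnitaryStd.isSimpleGroup_psu hf (show 3 ≤ 4 by norm_num) (fun h => absurd h (by norm_num))
  exact e.symm.isSimpleGroup

theorem gen_center : Subgroup.center ↥Gen = ⊥ := by
  have := gen_simple
  refine (Subgroup.Normal.eq_bot_or_eq_top (inferInstance : (Subgroup.center ↥Gen).Normal)).resolve_right fun h => ?_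
  have hc : ∀ a b : ↥Gen, a * b = b * a := fun a b => Subgroup.mem_center_iff.1 (h ▸ Subgroup.mem_top b) a
  let _ : CommGroup ↥Gen := { (inferInstance : Group ↥Gen) with mul_comm := hc }
  have := IsSimpleGroup.prime_card (α := ↥Gen)
  rw [card_Gen] at this
  norm_num at this

theorem sigma_conj : ∀ e ∈ u43Gens, validElt 7 112 e = true ∧ validElt 7 112 (mul 7 112 sigmaCode e) = true ∧
    validElt 7 112 (mul 7 112 (mul 7 112 sigmaCode e) sigmaCode) = true ∧
    sift 7 112 u43Levels (mul 7 112 (mul 7 112 sigmaCode e) sigmaCode).1 = true := by decide +kernel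

theorem sigma_sq : sigma * sigma = 1 := by
  rw [sigma, mel_mul, Equiv.swap_mul_self, ← mel_one]
  exact congrArg _ (Subtype.ext (funext fun _ => one_mul _))

theorem sigma_normal {g : S6} (hg : g ∈ K0) : sigma * g * sigma⁻¹ ∈ K0 := by
  obtain ⟨π, hπ, hm⟩ := hg
  rw [inv_eq_of_mul_eq_one_right sigma_sq]
  refine ⟨_, ?_, (sigma_moves.mul hm).mul sigma_moves⟩
  have hs2 : toPerm 7 112 sigmaCode * toPerm 7 112 sigmaCode = 1 := by
    refine (sigma_moves.mul sigma_moves).unique ?_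
    rw [sigma_sq]; exact moves_one
  clear hm
  induction hπ using Subgroup.closure_induction with
  | mem π hπ =>
    obtain ⟨e, he, rfl⟩ := List.mem_map.1 hπ
    obtain ⟨h1, h2, h3, h4⟩ := sigma_conj e he
    rw [← toPerm_mul sigma_checks.1 h1 h2, ← toPerm_mul h2 sigma_checks.1 h3]
    exact cert_mem u43_cert h3 h4
  | one => rw [mul_one, hs2]; exact one_mem _
  | mul a b _ _ ha hb =>
    have := mul_mem ha hb
    simp only [mul_assoc] at this ⊢
    rwa [← mul_assoc (toPerm 7 112 sigmaCode) (toPerm 7 112 sigmaCode), hs2, one_mul] at this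
  | inv a _ ha =>
    have := inv_mem ha
    rwa [_root_.mul_inv_rev, _root_.mul_inv_rev, inv_eq_of_mul_eq_one_right hs2, ← mul_assoc] at this

theorem normal_Nall {n g : S6} (hn : n ∈ Nall) (hg : g ∈ K0) : n * g * n⁻¹ ∈ K0 := by
  obtain ⟨π, d, rfl⟩ := hn
  rcases Int.units_eq_one_or (Equiv.Perm.sign π) with h | h
  · have := N0_le_K0 (mem_N0.2 ⟨π, h, d, rfl⟩)
    exact mul_mem (mul_mem this hg) (inv_mem this)
  · have hm : mel π d * sigma ∈ K0 := N0_le_K0 (by
      rw [sigma, mel_mul]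
      exact mem_N0.2 ⟨_, by rw [map_mul, h, Equiv.Perm.sign_swap (by decide)]; rfl, _, rfl⟩)
    have h1 := mul_mem (mul_mem hm (sigma_normal hg)) (inv_mem hm)
    have e : mel π d * sigma * (sigma * g * sigma⁻¹) * (mel π d * sigma)⁻¹ = mel π d * g * (mel π d)⁻¹ := by
      have h2 := sigma_sq
      rw [_root_.mul_inv_rev, inv_eq_of_mul_eq_one_right h2]
      rw [show mel π d * sigma * (sigma * g * sigma) * (sigma * (mel π d)⁻¹) =
        mel π d * (sigma * sigma) * g * (sigma * sigma) * (mel π d)⁻¹ by simp only [mul_assoc], h2, mul_one, mul_one]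
    rwa [e] at h1

end Cfsg.Agent.U43InU62
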