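import Cfsg.Agent.Lib.U43InU62.Shape

/-!
Every covering of U4(3) in the special unitary group is conjugate to a twist of the standard one.
-/

set_option autoImplicit false
set_option maxRecDepth 100000

namespace Cfsg.Agent.U43InU62

open Cfsg.Agent.RigidGraph.He
open Matrix

theorem mem_of_img {H : Subgroup S6} (hH : H ≤ K0) (hZH : Z ≤ H) {y : ↥K0} (hy : ψ y ∈ img H) : y.1 ∈ H := by
  rw [← pre_img hH hZH]
  exact param0.mem_pre.2 ⟨y.2, hy⟩

theorem Z_le_X0 : Z ≤ X0 := le_inf Z_le_N0 fun x hx =>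
  ⟨x, Z_le_N0 hx, by simp [(Subgroup.mem_center_iff.1 hx tau)]⟩

theorem X0_le_N0 : X0 ≤ N0 := inf_le_left

theorem exists_moved {K : Subgroup S6} (p : Param K) (hN : p.pre (img N0) = N0) :
    ∃ h ∈ K, h ∉ Nall ∧ ∃ M : Subgroup S6, M ≤ N0 ∧ Nat.card ↥M = 2916 ∧ ∀ n ∈ M, h⁻¹ * n * h ∈ Nall := by
  obtain ⟨⟨h, hK⟩, hh⟩ := p.surj (ψ ⟨tau, tau_mem⟩)
  have hXK : X0 ≤ K0 := X0_le_N0.trans N0_le_K0
  have hMN : p.pre (img X0) ≤ N0 := fun x hx => by
    obtain ⟨hx', hS⟩ := p.mem_pre.1 hx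
    rw [← hN]
    exact p.mem_pre.2 ⟨hx', Subgroup.map_mono (Subgroup.comap_mono X0_le_N0 : X0.subgroupOf K0 ≤ N0.subgroupOf K0) hS⟩
  have hcard : Nat.card ↥(p.pre (img X0)) = 2916 := by rw [p.card_pre, card_img hXK Z_le_X0, card_X0]
  have hconj : ∀ n ∈ p.pre (img X0), h⁻¹ * n * h ∈ N0 := fun n hn => by
    obtain ⟨hn', ⟨a, ha, e⟩⟩ := p.mem_pre.1 hn
    obtain ⟨b, hb, eb⟩ := (Subgroup.mem_inf.1 (Subgroup.mem_subgroupOf.1 ha)).2
    rw [← hN]
    refine p.mem_pre.2 ⟨mul_mem (mul_mem (inv_mem hK) hn') hK, ?_⟩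
    rw [show (⟨h⁻¹ * n * h, mul_mem (mul_mem (inv_mem hK) hn') hK⟩ : ↥K) = ⟨h, hK⟩⁻¹ * ⟨n, hn'⟩ * ⟨h, hK⟩ from rfl,
      map_mul, map_mul, map_inv, hh, ← e, ← map_inv, ← map_mul, ← map_mul,
      show (⟨tau, tau_mem⟩⁻¹ * a * ⟨tau, tau_mem⟩ : ↥K0) = ⟨b, N0_le_K0 hb⟩ from
        Subtype.ext (by show tau⁻¹ * a.1 * tau = b; rw [← eb]; simp [mul_assoc])]
    exact mem_img N0_le_K0 hb
  refine ⟨h, hK, fun hmono => ?_, _, hMN, hcard, fun n hn => monoSub_le _ (hconj n hn)⟩
  have hle : N0 ≤ p.pre (img X0) := fun n hn => by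
    have hn2 : h⁻¹ * n * h ∈ N0 := by
      have := conj_mem_monoSub (P := alternatingGroup (Fin 6)) inferInstance (inv_mem hmono) hn
      rwa [inv_inv] at this
    rw [← hN] at hn hn2
    obtain ⟨hn', ⟨a, ha, e⟩⟩ := p.mem_pre.1 hn
    obtain ⟨h2', hS⟩ := p.mem_pre.1 hn2
    rw [show (⟨h⁻¹ * n * h, h2'⟩ : ↥K) = ⟨h, hK⟩⁻¹ * ⟨n, hn'⟩ * ⟨h, hK⟩ from rfl,
      map_mul, map_mul, map_inv, hh, ← e, ← map_inv, ← map_mul, ← map_mul] at hS
    have h3 := mem_of_img N0_le_K0 Z_le_N0 hS
    refine p.mem_pre.2 ⟨hn', a, Subgroup.mem_subgroupOf.2 (Subgroup.mem_inf.2 ⟨ha, _, h3, ?_⟩), e⟩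
    simp [mul_assoc]
  have := Subgroup.card_le_of_le hle
  rw [card_N0, hcard] at this
  omega

/-- The permutation of tau. -/
noncomputable abbrev toPerm0 : Equiv.Perm (Fin 112) := PermCert.toPerm 7 112 tauCode

theorem tau_base : toPerm0 base = second := Fin.ext (by
  rw [← (PermCert.rep_toPerm tau_checks.1 base).1]; exact orbit_second.2.2.2.2)

theorem moves_tau_inv : Moves tau⁻¹ toPerm0⁻¹ := by
  have := psi_spec ⟨_, inv_mem tau_mem⟩
  rwa [show (ψ ⟨tau⁻¹, inv_mem tau_mem⟩).1 = toPerm0⁻¹ by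
    rw [show (⟨tau⁻¹, inv_mem tau_mem⟩ : ↥K0) = (⟨tau, tau_mem⟩ : ↥K0)⁻¹ from rfl, map_inv,
      Subgroup.coe_inv, psi_eq tau_mem tau_moves]] at this

theorem tau_inv_second : toPerm0⁻¹ second = base := by
  rw [← tau_base]; exact toPerm0.symm_apply_apply base

/-- The diagonal group is preserved by anything normalising the even monomial group. -/
theorem Ad_char {g : S6} (h : ∀ y ∈ N0, g⁻¹ * y * g ∈ N0) {a : S6} (ha : a ∈ Ad) : g⁻¹ * a * g ∈ Ad := by
  have hA : cj g⁻¹ Ad = Ad := by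
    obtain ⟨k, hk, -, hk2⟩ := conj_to_N0 (L := N0) (M := N0) (R := cj g⁻¹ Ad) P_le_N0 (by rw [card_N0]; norm_num)
      le_rfl card_N0 (by rintro _ ⟨x, hx, rfl⟩; simpa using h x (Ad_le_N0 hx)) (by rw [card_cj, card_Ad])
      (fun m hm r hr => by
        rw [mem_cj, inv_inv] at hr ⊢
        have hgm : g * m * g⁻¹ ∈ N0 := by
          have hfix : cj g⁻¹ N0 = N0 := Subgroup.eq_of_le_of_card_ge (by
            rintro _ ⟨x, hx, rfl⟩; simpa using h x hx) (by rw [card_cj])
          rw [← hfix, mem_cj, inv_inv] at hm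
          exact hm
        have := Ad_normal (monoSub_le _ hgm) hr
        simpa [mul_assoc] using this)
      (by
        rintro _ ⟨x, hx, rfl⟩ _ ⟨y, hy, rfl⟩
        rw [← map_mul, ← map_inv, ← map_mul, ← map_inv, ← map_mul,
          show x * y * x⁻¹ * y⁻¹ = 1 by rw [ad_comm hx hy]; group, map_one]
        exact one_mem _)
    refine (Subgroup.eq_of_le_of_card_ge (fun x hx => ?_) (by rw [card_cj])).symm
    have h1 : k * x * k⁻¹ ∈ cj k (cj g⁻¹ Ad) := hk2.ge (Ad_normal (monoSub_le _ hk) hx)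
    have := mem_cj.1 h1
    simpa [mul_assoc] using this
  rw [← hA, mem_cj, inv_inv]
  simpa [mul_assoc] using ha

theorem act_unique {g : S6} {u v : V6} {c : K4} (hc : c ≠ 0) (h : act g (c • u) = v) : act g u = c⁻¹ • v := by
  rw [← h, act_smul, inv_smul_smul₀ hc]

theorem supp_mel (π : Equiv.Perm (Fin 6)) (d : Dg) (v : V6) (k : Fin 6) :
    π k ∈ supp (act (mel π d) v) ↔ k ∈ supp v := by
  rw [mem_supp, mem_supp, act_mel, π.symm_apply_apply]
  simp [d.2.1 k]

theorem classify_normalised {K : Subgroup S6} (p : Param K) (hN : p.pre (img N0) = N0) :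
    ∃ (c : K4) (hc : c ≠ 0), K = twS hc K0 := by
  classical
  have hNK : N0 ≤ K := hN ▸ p.pre_le _
  obtain ⟨h, hK, hh, M, hM, hMc, hconj⟩ := exists_moved p hN
  obtain ⟨T, hT, ⟨a, ha⟩, ⟨b, hb⟩, hall⟩ := two_triples hM hMc hconj hh
  obtain ⟨π, hπ, hπT⟩ := triple_move T hT
  set h1 := (mel π done)⁻¹ * h with hh1
  have e1 : ∀ x, act h (bv x) = act (mel π done) (act h1 (bv x)) := fun x => by
    rw [← act_mul, hh1, mul_inv_cancel_left]
  let w : Fin 6 → V6 := fun x => act h1 (bv x)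
  have hz : ∀ x, supp (act h (bv x)) = T → ∀ k : Fin 6, w x k = 0 ↔ 3 ≤ k := fun x hx k => by
    have := supp_mel π done (w x) k
    rw [← e1, hx, hπT, mem_supp] at this
    rw [← not_lt, this, not_not]
  have hz' : ∀ x, supp (act h (bv x)) = Finset.univ \ T → ∀ k : Fin 6, w x k = 0 ↔ k < 3 := fun x hx k => by
    have := supp_mel π done (w x) k
    rw [← e1, hx, Finset.mem_sdiff, hπT, mem_supp] at this
    simp only [Finset.mem_univ, true_and] at this
    rw [← not_not (a := w x k = 0), ← ne_eq, ← this, not_not]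
  let D0 : V6 := fun k => if k < 3 then w a k else w b k
  have hD0 : ∀ k, D0 k ≠ 0 := fun k => by
    by_cases hk : k < 3
    · simp only [D0, hk, if_true]
      exact fun e => absurd ((hz a ha k).1 e) (not_le.2 hk)
    · simp only [D0, hk, if_false]
      exact fun e => hk ((hz' b hb k).1 e)
  set c := ∏ k, D0 k with hcdef
  have hc : c ≠ 0 := Finset.prod_ne_zero_iff.2 fun k _ => hD0 k
  let D : Dg := ⟨fun k => D0 k * dl c⁻¹ k, fun k => mul_ne_zero (hD0 k) (dl_ne (inv_ne_zero hc) k), by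
    rw [Finset.prod_mul_distrib, ← hcdef, show ∏ k, dl c⁻¹ k = c⁻¹ by simp [dl], mul_inv_cancel₀ hc]⟩
  set h2 := (mel 1 D)⁻¹ * h1 with hh2
  have h2K : h2 ∈ K := mul_mem (inv_mem (hNK (mem_N0.2 ⟨1, map_one _, D, rfl⟩)))
    (mul_mem (inv_mem (hNK (mem_N0.2 ⟨π, hπ, done, rfl⟩))) hK)
  have e2 : ∀ x k, w x k = D.1 k * act h2 (bv x) k := fun x k => by
    show act h1 (bv x) k = _
    rw [show h1 = mel 1 D * h2 by rw [hh2, mul_inv_cancel_left], act_mul, act_mel]
    rfl
  -- the lines of h2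
  let s : Fin 6 → V6 := fun x k => dl c⁻¹ k * act h2 (bv x) k
  have es : ∀ x k, w x k = D0 k * s x k := fun x k => by rw [e2]; show D0 k * dl c⁻¹ k * _ = _; rw [mul_assoc]
  have hsecond : ∀ x, ∃ t, nv (s x) = fr second t := fun x => by
    refine second_lines (s x) ?_
    have hs0 : ∀ k, s x k = 0 ↔ w x k = 0 := fun k => by
      rw [es]; exact ⟨fun e => mul_eq_zero_of_right _ e, fun e => (mul_eq_zero.1 e).resolve_left (hD0 k)⟩
    have hne1 : ∀ k : Fin 6, k < 3 → w x k ≠ 0 → D0 k = w a k := fun k hk _ => by simp [D0, hk]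
    rcases hall x with hx | hx
    · refine Or.inl ⟨fun k => (hs0 k).trans (hz x hx k), ?_⟩
      have ew : ∀ k : Fin 6, k < 3 → w x k = s x k * w a k := fun k hk => by
        rw [es]; simp [D0, hk, mul_comm]
      by_cases hxa : x = a
      · subst hxa
        have h1 : ∀ k : Fin 6, k < 3 → s x k = 1 := fun k hk => by
          have hne : w x k ≠ 0 := fun e => absurd ((hz x hx k).1 e) (not_le.2 hk)
          exact mul_right_cancel₀ hne ((ew k hk).symm.trans (one_mul _).symm)
        exact Or.inl ⟨by rw [h1 0 (by decide), h1 1 (by decide)], by rw [h1 1 (by decide), h1 2 (by decide)]⟩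
      · refine Or.inr ?_
        let d : V6 := fun k => if k < 3 then s x k else 1
        have hd : ∀ k, d k ≠ 0 := fun k => by
          by_cases hk : k < 3
          · simp only [d, hk, if_true]
            exact fun e => absurd ((hz x hx k).1 ((hs0 k).1 e)) (not_le.2 hk)
          · simp [d, hk]
        have hsa : supp (w a) = {0, 1, 2} := by
          ext k
          rw [mem_supp, Ne, hz a ha k, not_le]
          revert k; decide
        have horth : Cfsg.hermForm 6 K4 2 (w a) (fun k => d k * w a k) = 0 := by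
          rw [show (fun k => d k * w a k) = w x from funext fun k => by
            by_cases hk : k < 3
            · simp only [d, hk, if_true]; exact (ew k hk).symm
            · simp only [d, hk, if_false, one_mul]
              rw [(hz a ha k).2 (not_lt.1 hk), (hz x hx k).2 (not_lt.1 hk)]]
          exact orth h1 (Ne.symm hxa)
        have := ratio_distinct (by decide) (by decide) (by decide) hsa (hd 0) (hd 1) (hd 2) horth
        simpa [d] using this
    · refine Or.inr ⟨fun k => (hs0 k).trans (hz' x hx k), ?_⟩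
      have ew : ∀ k : Fin 6, ¬ k < 3 → w x k = s x k * w b k := fun k hk => by
        rw [es]; simp [D0, hk, mul_comm]
      by_cases hxa : x = b
      · subst hxa
        have h1 : ∀ k : Fin 6, ¬ k < 3 → s x k = 1 := fun k hk => by
          have hne : w x k ≠ 0 := fun e => hk ((hz' x hx k).1 e)
          exact mul_right_cancel₀ hne ((ew k hk).symm.trans (one_mul _).symm)
        exact Or.inl ⟨by rw [h1 3 (by decide), h1 4 (by decide)], by rw [h1 4 (by decide), h1 5 (by decide)]⟩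
      · refine Or.inr ?_
        let d : V6 := fun k => if k < 3 then 1 else s x k
        have hd : ∀ k, d k ≠ 0 := fun k => by
          by_cases hk : k < 3
          · simp [d, hk]
          · simp only [d, hk, if_false]
            exact fun e => hk ((hz' x hx k).1 ((hs0 k).1 e))
        have hsb : supp (w b) = {3, 4, 5} := by
          ext k
          rw [mem_supp, Ne, hz' b hb k]
          revert k; decide
        have horth : Cfsg.hermForm 6 K4 2 (w b) (fun k => d k * w b k) = 0 := by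
          rw [show (fun k => d k * w b k) = w x from funext fun k => by
            by_cases hk : k < 3
            · simp only [d, hk, if_true, one_mul]
              rw [(hz' b hb k).2 hk, (hz' x hx k).2 hk]
            · simp only [d, hk, if_false]; exact (ew k hk).symm]
          exact orth h1 (Ne.symm hxa)
        have := ratio_distinct (by decide) (by decide) (by decide) hsb (hd 3) (hd 4) (hd 5) horth
        simpa [d] using this
  -- twist back
  let e := twAut (inv_ne_zero hc)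
  let p2 := p.map e
  have hN2 : N0 ≤ K.map e.toMonoidHom := (twS_N0 (inv_ne_zero hc)).ge.trans (Subgroup.map_mono hNK)
  set g2 := tw (inv_ne_zero hc) h2
  have hmono : tau⁻¹ * g2 ∈ Nall := exists_mel fun j => by
    have hj : act g2 (bv j) = (dl c j) • s j := by
      rw [act_tw, inv_inv, show (fun i => dl c i * bv j i) = dl c j • bv j from funext fun i => by
        by_cases h : i = j
        · subst h; rfl
        · simp [bv, h], act_smul]
      funext k
      show dl c⁻¹ k * (dl c j * act h2 (bv j) k) = dl c j * (dl c⁻¹ k * act h2 (bv j) k)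
      ring
    obtain ⟨t, ht⟩ := hsecond j
    obtain ⟨he, hl⟩ := eq_of_nv ht (fr_ne _ _)
    have hm : Moves tau⁻¹ (toPerm0)⁻¹ := moves_tau_inv
    obtain ⟨a', c', -, e'⟩ := hm second _ (fr_mem second t)
    refine ⟨a', dl c j * lead (s j) * c', ?_⟩
    have hj2 : act g2 (bv j) = (dl c j * lead (s j)) • fr second t :=
      hj.trans ((congrArg (fun z : V6 => dl c j • z) he).trans (smul_smul _ _ _))
    rw [act_mul, hj2, act_smul, e', tau_inv_second, fr_base_eq, smul_smul]
  obtain ⟨σ', d, hd⟩ := hmono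
  have hgK : g2 ∈ K.map e.toMonoidHom := Subgroup.mem_map_of_mem e.toMonoidHom h2K
  have hg2 : g2 = tau * mel σ' d := by rw [← hd, mul_inv_cancel_left]
  have heq : K.map e.toMonoidHom = K0 := by
    rcases Int.units_eq_one_or (Equiv.Perm.sign σ') with hs | hs
    · refine eq_K0 p2.almost hN2 (Or.inl rfl) ?_
      rw [show tau = g2 * (mel σ' d)⁻¹ by rw [hg2, mul_inv_cancel_right]]
      exact mul_mem hgK (inv_mem (hN2 (mem_N0.2 ⟨σ', hs, d, rfl⟩)))
    · refine eq_K0 p2.almost hN2 (Or.inr rfl) ?_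
      have hm : sigma * mel σ' d ∈ N0 := by
        rw [sigma, mel_mul]
        exact mem_N0.2 ⟨_, by rw [map_mul, hs, Equiv.Perm.sign_swap (by decide)]; rfl, _, rfl⟩
      rw [show tau * sigma = g2 * (sigma * mel σ' d)⁻¹ by
        rw [hg2, _root_.mul_inv_rev, inv_eq_of_mul_eq_one_right sigma_sq, mul_assoc, mul_inv_cancel_left]]
      exact mul_mem hgK (inv_mem (hN2 hm))
  refine ⟨c, hc, le_antisymm (fun x hx => ?_) ?_⟩
  · refine ⟨e x, heq ▸ Subgroup.mem_map_of_mem e.toMonoidHom hx, ?_⟩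
    show tw hc (tw (inv_ne_zero hc) x) = x
    rw [tw_tw, tw_congr _ one_ne_zero (mul_inv_cancel₀ hc), tw_one_arg]
  · rintro _ ⟨y, hy, rfl⟩
    rw [SetLike.mem_coe, ← heq] at hy
    obtain ⟨x, hx, rfl⟩ := hy
    show tw hc (tw (inv_ne_zero hc) x) ∈ K
    rwa [tw_tw, tw_congr _ one_ne_zero (mul_inv_cancel₀ hc), tw_one_arg]

theorem classify {K : Subgroup S6} (p : Param K) : ∃ (g : S6) (c : K4) (hc : c ≠ 0), cj g K = twS hc K0 := by
  obtain ⟨g, hg⟩ := p.exists_normalised
  obtain ⟨c, hc, e⟩ := classify_normalised (p.map (MulAut.conj g)) ((p.pre_map _ _).trans hg)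
  exact ⟨g, c, hc, e⟩

theorem untwist_lines : ∀ c : K4, c ≠ 0 → c ≠ 1 → ∀ i : Fin 112, ∃ t, ∀ a,
    nv (fun k => dl c k * fr second t k) ≠ fr i a := by decide +kernel

/-- Different twists are not conjugate. -/
theorem twist_distinct {c : K4} (hc : c ≠ 0) (hc1 : c ≠ 1) (u : S6) : cj u K0 ≠ twS hc K0 := by
  intro hu
  have hN : N0 ≤ twS hc K0 := (twS_N0 hc).ge.trans (Subgroup.map_mono N0_le_K0)
  have hcard : Nat.card ↥(twS hc K0) = 9797760 := by
    rw [twS, Subgroup.card_map_of_injective (twAut hc).injective, card_K0]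
  obtain ⟨k, hk, hkM, -⟩ := conj_to_N0 (L := twS hc K0) (M := cj u N0) (R := cj u Ad) (P_le_N0.trans hN)
    (by rw [hcard]; norm_num) (hu ▸ Subgroup.map_mono N0_le_K0) (by rw [card_cj, card_N0])
    (Subgroup.map_mono Ad_le_N0) (by rw [card_cj, card_Ad])
    (by
      rintro _ ⟨m, hm, rfl⟩ _ ⟨r, hr, rfl⟩
      exact ⟨m * r * m⁻¹, Ad_normal (monoSub_le _ hm) hr, by simp [mul_assoc]⟩)
    (by
      rintro _ ⟨x, hx, rfl⟩ _ ⟨y, hy, rfl⟩
      rw [← map_mul, ← map_inv, ← map_mul, ← map_inv, ← map_mul,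
        show x * y * x⁻¹ * y⁻¹ = 1 by rw [ad_comm hx hy]; group, map_one]
      exact one_mem _)
  have hn : k * u ∈ Nall := mem_Nall_of_normalise fun a ha => by
    have h2 : ∀ y ∈ N0, (k * u)⁻¹ * y * (k * u) ∈ N0 := fun y hy => by
      rw [← hkM] at hy
      have := mem_cj.1 (mem_cj.1 hy)
      rw [show (k * u)⁻¹ * y * (k * u) = u⁻¹ * (k⁻¹ * y * k) * u by group]
      exact this
    exact Ad_char (fun y hy => h2 y hy) ha
  have hK : twS hc K0 = K0 := by
    refine (Subgroup.eq_of_le_of_card_ge (fun x hx => ?_) (by rw [card_K0, hcard])).symm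
    have hx' : (k * u)⁻¹ * x * (k * u) ∈ K0 := by
      have := normal_Nall (inv_mem hn) hx
      rwa [inv_inv] at this
    have := hu.le (Subgroup.mem_map_of_mem (MulAut.conj u).toMonoidHom hx')
    have h3 := mul_mem (mul_mem hk this) (inv_mem hk)
    simpa [mul_assoc] using h3
  have hmem : tw hc tau ∈ K0 := hK.le (tw_mem hc tau_mem)
  obtain ⟨π, -, hm⟩ := mem_K0.1 hmem
  obtain ⟨t, ht⟩ := untwist_lines c hc hc1 (π base)
  obtain ⟨a', c', hc', e⟩ := moves_tau_inv second _ (fr_mem second t)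
  rw [tau_inv_second, fr_base_eq] at e
  have e' : act tau (bv a') = c'⁻¹ • fr second t := by
    refine act_unique hc' ?_
    rw [← e, ← act_mul, mul_inv_cancel, act_one]
  obtain ⟨a2, c2, hc2, e2⟩ := hm base _ (bv_mem a')
  refine ht a2 ?_
  rw [act_tw, show (fun i => dl c⁻¹ i * bv a' i) = dl c⁻¹ a' • bv a' from funext fun i => by
    by_cases h : i = a'
    · subst h; rfl
    · simp [bv, h], act_smul, e', smul_smul] at e2
  have hne : dl c⁻¹ a' * c'⁻¹ ≠ 0 := mul_ne_zero (dl_ne (inv_ne_zero hc) _) (inv_ne_zero hc')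
  rw [show (fun k => dl c k * ((dl c⁻¹ a' * c'⁻¹) • fr second t) k) =
    (dl c⁻¹ a' * c'⁻¹) • fun k => dl c k * fr second t k from funext fun k => by
      simp only [Pi.smul_apply, smul_eq_mul]; ring] at e2
  rw [← nv_smul hne, e2, nv_smul hc2, (fr_ok _ a2).1]

end Cfsg.Agent.U43InU62
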