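import Cfsg.Agent.Lib.U43InU62.Mono
import Cfsg.Agent.Lib.U43InU62.Data
import Cfsg.Agent.Lib.SchurMult.U43Group

/-!
The 112 frames and the subgroup of the special unitary group acting on them as U4(3).
-/

set_option autoImplicit false
set_option maxRecDepth 100000

namespace Cfsg.Agent.U43InU62

open Cfsg.Agent.RigidGraph.He
open Cfsg.Agent.PermCert
open Cfsg.Agent.SchurMult (u43Gens u43Derived u43Levels u43_cert u43_order)
open Matrix

/-- The first non-zero coordinate. -/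
def lead (v : V6) : K4 :=
  if v 0 ≠ 0 then v 0 else if v 1 ≠ 0 then v 1 else if v 2 ≠ 0 then v 2 else
    if v 3 ≠ 0 then v 3 else if v 4 ≠ 0 then v 4 else v 5

/-- The normalised vector. -/
def nv (v : V6) : V6 := fun k => (lead v)⁻¹ * v k

theorem lead_smul {c : K4} (hc : c ≠ 0) (v : V6) : lead (c • v) = c * lead v := by
  simp only [lead, Pi.smul_apply, smul_eq_mul, ne_eq, mul_eq_zero, hc, false_or]
  split_ifs <;> rfl

theorem nv_smul {c : K4} (hc : c ≠ 0) (v : V6) : nv (c • v) = nv v := by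
  funext k
  simp only [nv, lead_smul hc, Pi.smul_apply, smul_eq_mul, mul_inv]
  field_simp

theorem eq_of_nv {u w : V6} (h : nv u = w) (hw : w ≠ 0) : u = lead u • w ∧ lead u ≠ 0 := by
  have hl : lead u ≠ 0 := fun e => hw (h.symm.trans (funext fun k => by simp [nv, e]))
  exact ⟨funext fun k => by rw [← h, Pi.smul_apply, smul_eq_mul, nv, mul_inv_cancel_left₀ hl], hl⟩

/-- The points of the frames. -/
def fr (i : Fin 112) (a : Fin 6) : V6 :=
  fun k => K4.ofDigit ((frCodes.getD i 0 >>> (12 * (a : ℕ) + 2 * (k : ℕ))) % 4)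

/-- The digit of an element. -/
def dig : K4 → ℕ
  | .o => 0 | .l => 1 | .w => 2 | .v => 3

/-- A vector as a number. -/
def enc (v : V6) : ℕ := dig (v 0) + 4 * dig (v 1) + 16 * dig (v 2) + 64 * dig (v 3) + 256 * dig (v 4) + 1024 * dig (v 5)

theorem fr_ok : ∀ i a, nv (fr i a) = fr i a ∧ enc (fr i a) ≠ 0 := by decide +kernel

theorem fr_codes_nodup : (List.ofFn fun x : Fin 672 =>
    enc (fr (Fin.ofNat 112 (x / 6)) (Fin.ofNat 6 (x % 6)))).Nodup := by decide +kernel

theorem fr_base : ∀ a k, fr base a k = if k = a then 1 else 0 := by decide +kernel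

theorem fr_ne (i : Fin 112) (a : Fin 6) : fr i a ≠ 0 := fun h => (fr_ok i a).2 (by rw [h]; rfl)

theorem fr_inj {i j : Fin 112} {a b : Fin 6} (h : fr i a = fr j b) : i = j ∧ a = b := by
  have hinj := List.nodup_ofFn.1 fr_codes_nodup
  have e : ∀ (i : Fin 112) (a : Fin 6), Fin.ofNat 112 ((6 * (i : ℕ) + a) / 6) = i ∧ Fin.ofNat 6 ((6 * (i : ℕ) + a) % 6) = a :=
    fun i a => ⟨Fin.ext (by simp only [Fin.val_ofNat]; omega), Fin.ext (by simp only [Fin.val_ofNat]; omega)⟩
  have := @hinj ⟨6 * i + a, by omega⟩ ⟨6 * j + b, by omega⟩ (by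
    show enc (fr _ _) = enc (fr _ _)
    rw [(e i a).1, (e i a).2, (e j b).1, (e j b).2, h])
  have := congrArg Fin.val this
  dsimp at this
  exact ⟨Fin.ext (by omega), Fin.ext (by omega)⟩

/-- The vectors on the lines of a frame. -/
def Frame (i : Fin 112) : Set V6 := {u | ∃ (a : Fin 6) (c : K4), c ≠ 0 ∧ u = c • fr i a}

theorem fr_mem (i : Fin 112) (a : Fin 6) : fr i a ∈ Frame i := ⟨a, 1, one_ne_zero, (one_smul K4 _).symm⟩

theorem fr_base_eq (a : Fin 6) : fr base a = bv a := funext fun k => by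
  rw [fr_base, bv, Pi.single_apply]

theorem bv_mem (a : Fin 6) : bv a ∈ Frame base := by rw [← fr_base_eq]; exact fr_mem base a

theorem frame_inj {i j : Fin 112} {u : V6} (hi : u ∈ Frame i) (hj : u ∈ Frame j) : i = j := by
  obtain ⟨a, c, hc, rfl⟩ := hi
  obtain ⟨b, c', hc', e⟩ := hj
  have := congrArg nv e
  rw [nv_smul hc, nv_smul hc', (fr_ok i a).1, (fr_ok j b).1] at this
  exact (fr_inj this).1

/-- The target permutation group. -/
abbrev Gen : Subgroup (Equiv.Perm (Fin 112)) := genGroup 7 112 u43Gens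

theorem card_Gen : Nat.card ↥Gen = 3265920 := by rw [Gen, cert_card u43_cert, u43_order]

/-- g moves the frames as π. -/
def Moves (g : S6) (π : Equiv.Perm (Fin 112)) : Prop := ∀ i, ∀ u ∈ Frame i, act g u ∈ Frame (π i)

theorem moves_one : Moves 1 1 := fun i u hu => by rw [act_one]; exact hu

theorem Moves.mul {g h : S6} {π π' : Equiv.Perm (Fin 112)} (hg : Moves g π) (hh : Moves h π') :
    Moves (g * h) (π * π') := fun i u hu => by rw [act_mul]; exact hg _ _ (hh i u hu)

theorem Moves.unique {g : S6} {π π' : Equiv.Perm (Fin 112)} (h : Moves g π) (h' : Moves g π') : π = π' :=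
  Equiv.ext fun i => frame_inj (h i _ (fr_mem i 0)) (h' i _ (fr_mem i 0))

/-- The certificate that a matrix moves frames as a coded permutation. -/
def MapsCode (M : Matrix (Fin 6) (Fin 6) K4) (e : Elt) : Prop :=
  ∀ i a, ∃ b, nv (M *ᵥ fr i a) = fr (Fin.ofNat 112 (get 7 e.1 (i : Fin 112))) b

instance (M : Matrix (Fin 6) (Fin 6) K4) (e : Elt) : Decidable (MapsCode M e) := by
  unfold MapsCode; infer_instance

theorem moves_of_code {g : S6} {M : Matrix (Fin 6) (Fin 6) K4} {e : Elt} (hM : mat g = M)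
    (hv : validElt 7 112 e = true) (h : MapsCode M e) : Moves g (toPerm 7 112 e) := by
  rintro i _ ⟨a, c, hc, rfl⟩
  obtain ⟨b, hb⟩ := h i a
  obtain ⟨h1, h2⟩ := eq_of_nv hb (fr_ne _ _)
  refine ⟨b, c * lead (M *ᵥ fr i a), mul_ne_zero hc h2, ?_⟩
  have hj : Fin.ofNat 112 (get 7 e.1 (i : ℕ)) = toPerm 7 112 e i := Fin.ext (by
    rw [Fin.val_ofNat, (rep_toPerm hv i).1, Nat.mod_eq_of_lt (toPerm 7 112 e i).2])
  rw [act_smul, act, hM, ← hj]
  conv_lhs => rw [h1]
  rw [smul_smul]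

theorem toPerm_mul {a b : Elt} (ha : validElt 7 112 a = true) (hb : validElt 7 112 b = true)
    (hab : validElt 7 112 (mul 7 112 a b) = true) :
    toPerm 7 112 (mul 7 112 a b) = toPerm 7 112 a * toPerm 7 112 b :=
  rep_unique (rep_toPerm hab) (rep_mul (rep_toPerm ha) (rep_toPerm hb))

/-- The copy of 3.U4(3). -/
def K0 : Subgroup S6 :=
  finSub
    { carrier := {g | ∃ π ∈ Gen, Moves g π}
      one_mem' := ⟨1, one_mem _, moves_one⟩
      mul_mem' := by
        rintro _ _ ⟨π, hπ, hg⟩ ⟨π', hπ', hh⟩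
        exact ⟨π * π', mul_mem hπ hπ', hg.mul hh⟩ }

theorem mem_K0 {g : S6} : g ∈ K0 ↔ ∃ π ∈ Gen, Moves g π := Iff.rfl

theorem mem_K0_of_code {g : S6} {M : Matrix (Fin 6) (Fin 6) K4} {e : Elt} (hM : mat g = M)
    (hv : validElt 7 112 e = true) (hs : sift 7 112 u43Levels e.1 = true) (h : MapsCode M e) : g ∈ K0 :=
  ⟨_, cert_mem u43_cert hv hs, moves_of_code hM hv h⟩

/-- The action on the frames. -/
noncomputable def ψ : ↥K0 →* ↥Gen where
  toFun g := ⟨g.2.choose, g.2.choose_spec.1⟩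
  map_one' := Subtype.ext ((Exists.choose_spec (1 : ↥K0).2).2.unique moves_one)
  map_mul' g h := Subtype.ext ((Exists.choose_spec (g * h).2).2.unique (g.2.choose_spec.2.mul h.2.choose_spec.2))

theorem psi_spec (g : ↥K0) : Moves g.1 (ψ g).1 := g.2.choose_spec.2

theorem psi_eq {g : S6} (hg : g ∈ K0) {π : Equiv.Perm (Fin 112)} (h : Moves g π) : (ψ ⟨g, hg⟩).1 = π :=
  (psi_spec _).unique h

end Cfsg.Agent.U43InU62
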