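import Cfsg.Prelude.Def_Classical
import Cfsg.Agent.Lib.Classical.HermSU
import Cfsg.Agent.Lib.Classical.HermStd
import Cfsg.Agent.Lib.RigidGraph.He.FieldFour
import Mathlib.GroupTheory.SpecificGroups.Alternating
import Mathlib.LinearAlgebra.Matrix.Determinant.Basic

/-!
Monomial elements of the special unitary group of dimension six over four elements.
-/

set_option autoImplicit false
set_option maxRecDepth 100000

namespace Cfsg.Agent.U43InU62

open Cfsg.Agent.RigidGraph.He
open Matrix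

/-- Vectors. -/
abbrev V6 : Type := Fin 6 → K4

/-- The special unitary group of dimension six over four elements. -/
abbrev S6 : Type := ↥(Cfsg.SU 6 K4 2)

/-- The matrix of an element. -/
def mat (g : S6) : Matrix (Fin 6) (Fin 6) K4 := g.1.1

/-- The linear action. -/
def act (g : S6) (v : V6) : V6 := mat g *ᵥ v

theorem act_mul (g h : S6) (v : V6) : act (g * h) v = act g (act h v) :=
  (Matrix.mulVec_mulVec v (mat g) (mat h)).symm

theorem act_one (v : V6) : act 1 v = v := Matrix.one_mulVec v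

theorem act_smul (g : S6) (c : K4) (v : V6) : act g (c • v) = c • act g v := Matrix.mulVec_smul _ _ _

theorem act_inj (g : S6) {u v : V6} (h : act g u = act g v) : u = v := by
  have := congrArg (act g⁻¹) h
  rwa [← act_mul, ← act_mul, inv_mul_cancel, act_one, act_one] at this

theorem act_zero (g : S6) : act g 0 = 0 := Matrix.mulVec_zero _

/-- The standard basis. -/
def bv (j : Fin 6) : V6 := Pi.single j 1

theorem ext_bv {g h : S6} (e : ∀ j, act g (bv j) = act h (bv j)) : g = h :=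
  Subtype.ext (Subtype.ext (Matrix.ext_of_mulVec_single e))

theorem herm_act (g : S6) (u v : V6) :
    Cfsg.hermForm 6 K4 2 (act g u) (act g v) = Cfsg.hermForm 6 K4 2 u v := g.2 u v

theorem exists_mem_of_unitary (M : Matrix (Fin 6) (Fin 6) K4) (hd : M.det = 1)
    (hu : Mᵀ * M.map (fun x => x * x) = 1) : ∃ g : S6, mat g = M := by
  obtain ⟨σ, hσ, -⟩ := HermStd.exists_sigma (q := 2) (F := K4) (by rw [K4.card_K4]; norm_num)
  refine ⟨⟨⟨M, hd⟩, (HermSU.mem_SU_iff (q := 2) hσ _).2 ?_⟩, rfl⟩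
  rw [show M.map σ = M.map (fun x => x * x) from Matrix.ext fun i j => by
    rw [Matrix.map_apply, Matrix.map_apply, hσ, pow_two]]
  exact hu

theorem eq_smul_inv {c : K4} (hc : c ≠ 0) {u v : V6} (h : u = c • v) : v = c⁻¹ • u := by
  rw [h, inv_smul_smul₀ hc]

/-- Admissible diagonals. -/
def Adm (d : V6) : Prop := (∀ j, d j ≠ 0) ∧ ∏ j, d j = 1

instance : DecidablePred Adm := fun d => by unfold Adm; infer_instance

/-- Diagonals of determinant one. -/
abbrev Dg : Type := {d : V6 // Adm d}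

theorem sign_one (π : Equiv.Perm (Fin 6)) : (((Equiv.Perm.sign π : ℤˣ) : ℤ) : K4) = 1 := by
  rcases Int.units_eq_one_or (Equiv.Perm.sign π) with h | h <;> rw [h] <;>
    first
    | exact Int.cast_one
    | (rw [Units.val_neg, Units.val_one, Int.cast_neg, Int.cast_one]; exact neg_eq_of_add_eq_zero_left (K4.add_self 1))

/-- The matrix of a monomial element. -/
def monoMat (π : Equiv.Perm (Fin 6)) (d : V6) : Matrix (Fin 6) (Fin 6) K4 :=
  (Matrix.diagonal d).submatrix π.symm id

theorem monoMat_mulVec (π : Equiv.Perm (Fin 6)) (d v : V6) (i : Fin 6) :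
    (monoMat π d *ᵥ v) i = d (π.symm i) * v (π.symm i) := by
  show ∑ j, (Matrix.diagonal d) (π.symm i) j * v j = _
  exact Matrix.mulVec_diagonal d v (π.symm i)

theorem det_monoMat (π : Equiv.Perm (Fin 6)) (d : Dg) : (monoMat π d.1).det = 1 := by
  rw [monoMat, Matrix.det_permute, sign_one, one_mul, Matrix.det_diagonal, d.2.2]

theorem cube_ne_zero {c : K4} (h : c ≠ 0) : c * c ^ 2 = 1 := by revert h; revert c; decide

/-- A monomial element. -/
def mel (π : Equiv.Perm (Fin 6)) (d : Dg) : S6 :=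
  ⟨⟨monoMat π d.1, det_monoMat π d⟩, fun u v => by
    show Cfsg.hermForm 6 K4 2 (monoMat π d.1 *ᵥ u) (monoMat π d.1 *ᵥ v) = _
    simp only [Cfsg.hermForm, monoMat_mulVec]
    refine (Equiv.sum_comp π.symm fun j => d.1 j * u j * (d.1 j * v j) ^ 2).trans (Finset.sum_congr rfl fun j _ => ?_)
    linear_combination (u j * v j ^ 2) * cube_ne_zero (d.2.1 j)⟩

theorem act_mel (π : Equiv.Perm (Fin 6)) (d : Dg) (v : V6) (i : Fin 6) :
    act (mel π d) v i = d.1 (π.symm i) * v (π.symm i) := monoMat_mulVec π d.1 v i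

theorem act_mel_bv (π : Equiv.Perm (Fin 6)) (d : Dg) (j : Fin 6) :
    act (mel π d) (bv j) = d.1 j • bv (π j) := by
  funext i
  rw [act_mel, Pi.smul_apply, smul_eq_mul, bv, bv, Pi.single_apply, Pi.single_apply]
  by_cases h : π.symm i = j
  · subst h; simp
  · rw [if_neg h, if_neg (fun e => h (by simp [e])), mul_zero, mul_zero]

/-- The constant diagonal. -/
def done : Dg := ⟨1, fun _ => one_ne_zero, Finset.prod_eq_one fun _ _ => rfl⟩

/-- The product of two monomial data. -/
def dmul (π' : Equiv.Perm (Fin 6)) (d d' : Dg) : Dg :=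
  ⟨fun j => d'.1 j * d.1 (π' j), fun j => mul_ne_zero (d'.2.1 j) (d.2.1 _), by
    rw [Finset.prod_mul_distrib, d'.2.2, one_mul, Equiv.prod_comp π' d.1, d.2.2]⟩

theorem mel_mul (π π' : Equiv.Perm (Fin 6)) (d d' : Dg) :
    mel π d * mel π' d' = mel (π * π') (dmul π' d d') := by
  refine ext_bv fun j => ?_
  rw [act_mul, act_mel_bv, act_smul, act_mel_bv, act_mel_bv, smul_smul]
  rfl

theorem mel_one : mel 1 done = 1 := ext_bv fun j => by
  rw [act_mel_bv, act_one]; exact one_smul K4 _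

theorem bv_ne (j : Fin 6) : bv j ≠ 0 := fun h => by
  have := congrFun h j
  rw [bv, Pi.single_eq_same] at this
  exact one_ne_zero this

theorem smul_bv_inj {i i' : Fin 6} {c c' : K4} (hc : c ≠ 0) (h : c • bv i = c' • bv i') : i = i' ∧ c = c' := by
  have h1 := congrFun h i
  simp only [bv, Pi.smul_apply, Pi.single_eq_same, smul_eq_mul, mul_one, Pi.single_apply] at h1
  by_cases e : i = i'
  · exact ⟨e, by simpa [e] using h1⟩
  · exact absurd (by simpa [e] using h1) hc

theorem mel_inj {π π' : Equiv.Perm (Fin 6)} {d d' : Dg} (h : mel π d = mel π' d') : π = π' ∧ d = d' := by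
  have key : ∀ j, π j = π' j ∧ d.1 j = d'.1 j := fun j => by
    have := congrArg (fun g => act g (bv j)) h
    simp only [act_mel_bv] at this
    exact smul_bv_inj (d.2.1 j) this
  exact ⟨Equiv.ext fun j => (key j).1, Subtype.ext (funext fun j => (key j).2)⟩

/-- An element carrying the coordinate lines to coordinate lines is monomial. -/
theorem exists_mel {g : S6} (h : ∀ j, ∃ (i : Fin 6) (c : K4), act g (bv j) = c • bv i) : ∃ π d, g = mel π d := by
  choose p c hp using h
  have hc : ∀ j, c j ≠ 0 := fun j e => bv_ne j (act_inj g (by rw [hp, e, zero_smul, act_zero]))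
  have hinj : Function.Injective p := fun j k e => by
    by_contra hjk
    have := herm_act g (bv j) (bv k)
    rw [hp, hp, e] at this
    simp [Cfsg.hermForm, bv, Pi.single_apply, ne_comm.1 hjk, hc j, hc k] at this
  let π := Equiv.ofBijective p (Finite.injective_iff_bijective.1 hinj)
  have hM : mat g = monoMat π c := Matrix.ext_of_mulVec_single fun j => by
    refine (hp j).trans (funext fun i => ?_)
    rw [Pi.smul_apply, smul_eq_mul]
    refine Eq.trans ?_ (monoMat_mulVec π c (bv j) i).symm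
    show c j * bv (π j) i = c (π.symm i) * bv j (π.symm i)
    simp only [bv]
    by_cases h : π.symm i = j
    · subst h; simp
    · rw [Pi.single_eq_of_ne (M := fun _ => K4) h, mul_zero, Pi.single_eq_of_ne (M := fun _ => K4) (fun e => h (by simp [e])), mul_zero]
  have hp1 : ∏ j, c j = 1 := by
    have h1 : (mat g).det = 1 := g.1.2
    rwa [hM, monoMat, Matrix.det_permute, sign_one, one_mul, Matrix.det_diagonal] at h1
  exact ⟨π, ⟨c, hc, hp1⟩, Subtype.ext (Subtype.ext hM)⟩

/-- A submonoid of a finite group as a subgroup. -/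
def finSub {G : Type*} [Group G] [Finite G] (M : Submonoid G) : Subgroup G :=
  { carrier := (M : Set G)
    one_mem' := M.one_mem
    mul_mem' := fun ha hb => M.mul_mem ha hb
    inv_mem' := fun {g} hg => by
      have hh : g⁻¹ = g ^ (orderOf g - 1) := by
        rw [inv_eq_iff_mul_eq_one, ← pow_succ', Nat.sub_add_cancel (orderOf_pos g), pow_orderOf_eq_one]
      rw [hh]
      exact pow_mem hg _ }

/-- The monomial elements. -/
def Nall : Subgroup S6 :=
  finSub
    { carrier := {g | ∃ π d, g = mel π d}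
      one_mem' := ⟨1, done, mel_one.symm⟩
      mul_mem' := by
        rintro _ _ ⟨π, d, rfl⟩ ⟨π', d', rfl⟩
        exact ⟨π * π', dmul π' d d', mel_mul π π' d d'⟩ }

theorem mem_Nall {g : S6} : g ∈ Nall ↔ ∃ π d, g = mel π d := Iff.rfl

theorem mel_mem (π : Equiv.Perm (Fin 6)) (d : Dg) : mel π d ∈ Nall := ⟨π, d, rfl⟩

/-- Monomial elements as pairs. -/
noncomputable def nallEquiv : Equiv.Perm (Fin 6) × Dg ≃ ↥Nall :=
  Equiv.ofBijective (fun x => ⟨mel x.1 x.2, mel_mem x.1 x.2⟩)
    ⟨fun x y h => Prod.ext (mel_inj (congrArg Subtype.val h)).1 (mel_inj (congrArg Subtype.val h)).2,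
      fun ⟨g, π, d, e⟩ => ⟨(π, d), Subtype.ext e.symm⟩⟩

/-- The permutation of the coordinates. -/
noncomputable def pr : ↥Nall →* Equiv.Perm (Fin 6) where
  toFun g := (nallEquiv.symm g).1
  map_one' := by
    rw [show (1 : ↥Nall) = nallEquiv (1, done) from Subtype.ext mel_one.symm, Equiv.symm_apply_apply]
  map_mul' := fun g h => by
    obtain ⟨⟨a, d⟩, rfl⟩ := nallEquiv.surjective g
    obtain ⟨⟨b, d'⟩, rfl⟩ := nallEquiv.surjective h
    rw [show nallEquiv (a, d) * nallEquiv (b, d') = nallEquiv (a * b, dmul b d d') from Subtype.ext (mel_mul a b d d'),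
      Equiv.symm_apply_apply, Equiv.symm_apply_apply, Equiv.symm_apply_apply]

theorem pr_mel (π : Equiv.Perm (Fin 6)) (d : Dg) : pr ⟨mel π d, mel_mem π d⟩ = π :=
  congrArg Prod.fst (nallEquiv.symm_apply_apply (π, d))

/-- Monomial elements with permutation in a group. -/
noncomputable def monoSub (P : Subgroup (Equiv.Perm (Fin 6))) : Subgroup S6 := (P.comap pr).map Nall.subtype

theorem mem_monoSub {P : Subgroup (Equiv.Perm (Fin 6))} {g : S6} :
    g ∈ monoSub P ↔ ∃ π ∈ P, ∃ d, g = mel π d := by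
  constructor
  · rintro ⟨⟨x, π, d, rfl⟩, hx, rfl⟩
    exact ⟨π, by have h : pr ⟨mel π d, mel_mem π d⟩ ∈ P := hx; rwa [pr_mel] at h, d, rfl⟩
  · rintro ⟨π, hπ, d, rfl⟩
    exact ⟨⟨mel π d, mel_mem π d⟩, by show pr _ ∈ P; rwa [pr_mel], rfl⟩

theorem card_monoSub (P : Subgroup (Equiv.Perm (Fin 6))) : Nat.card ↥(monoSub P) = Nat.card ↥P * Nat.card Dg := by
  rw [← Nat.card_prod]
  refine (Nat.card_congr (Equiv.ofBijective (fun x : ↥P × Dg => (⟨mel x.1 x.2, mem_monoSub.2 ⟨_, x.1.2, _, rfl⟩⟩ : ↥(monoSub P))) ⟨?_, ?_⟩)).symm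
  · intro x y h
    obtain ⟨h1, h2⟩ := mel_inj (congrArg Subtype.val h)
    exact Prod.ext (Subtype.ext h1) h2
  · rintro ⟨g, hg⟩
    obtain ⟨π, hπ, d, rfl⟩ := mem_monoSub.1 hg
    exact ⟨(⟨π, hπ⟩, d), rfl⟩

theorem card_Dg : Nat.card Dg = 243 := by
  rw [Nat.card_eq_fintype_card]; decide +kernel

theorem conj_mem_monoSub {P : Subgroup (Equiv.Perm (Fin 6))} (hP : P.Normal) {n g : S6} (hn : n ∈ Nall)
    (hg : g ∈ monoSub P) : n * g * n⁻¹ ∈ monoSub P := by
  obtain ⟨⟨x, hx'⟩, hx, rfl⟩ := hg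
  exact ⟨⟨n, hn⟩ * ⟨x, hx'⟩ * ⟨n, hn⟩⁻¹, by
    show pr _ ∈ P
    rw [map_mul, map_mul, map_inv]
    exact hP.conj_mem _ hx _, rfl⟩

/-- The diagonal subgroup. -/
noncomputable def Ad : Subgroup S6 := monoSub ⊥

/-- The monomial elements with even permutation. -/
noncomputable def N0 : Subgroup S6 := monoSub (alternatingGroup (Fin 6))

theorem mem_Ad {g : S6} : g ∈ Ad ↔ ∃ d, g = mel 1 d := by
  rw [Ad, mem_monoSub]
  exact ⟨fun ⟨π, hπ, d, e⟩ => ⟨d, by rw [Subgroup.mem_bot.1 hπ] at e; exact e⟩,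
    fun ⟨d, e⟩ => ⟨1, one_mem _, d, e⟩⟩

theorem mem_N0 {g : S6} : g ∈ N0 ↔ ∃ π, Equiv.Perm.sign π = 1 ∧ ∃ d, g = mel π d := by
  rw [N0, mem_monoSub]; simp only [Equiv.Perm.mem_alternatingGroup]

theorem monoSub_le (P : Subgroup (Equiv.Perm (Fin 6))) : monoSub P ≤ Nall := Subgroup.map_subtype_le _

theorem card_Ad : Nat.card ↥Ad = 243 := by rw [Ad, card_monoSub, card_Dg, Subgroup.card_bot, one_mul]

theorem card_alt : Nat.card ↥(alternatingGroup (Fin 6)) = 360 := by
  rw [nat_card_alternatingGroup, Nat.card_fin]; rfl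

theorem card_N0 : Nat.card ↥N0 = 87480 := by rw [N0, card_monoSub, card_Dg, card_alt]

theorem Ad_le_N0 : Ad ≤ N0 := fun g hg => by
  obtain ⟨d, rfl⟩ := mem_Ad.1 hg
  exact mem_N0.2 ⟨1, map_one _, d, rfl⟩

theorem ad_comm {a b : S6} (ha : a ∈ Ad) (hb : b ∈ Ad) : a * b = b * a := by
  obtain ⟨d, rfl⟩ := mem_Ad.1 ha
  obtain ⟨d', rfl⟩ := mem_Ad.1 hb
  rw [mel_mul, mel_mul]
  exact congrArg (mel 1) (Subtype.ext (funext fun j => mul_comm _ _))

/-- An element normalising the diagonal group is monomial. -/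
theorem mem_Nall_of_normalise {n : S6} (h : ∀ a ∈ Ad, n⁻¹ * a * n ∈ Ad) : n ∈ Nall := by
  refine exists_mel fun j => ?_
  set v := act n (bv j) with hv
  have hv0 : v ≠ 0 := fun e => bv_ne j (act_inj n (e.trans (act_zero n).symm))
  have key : ∀ (i k : Fin 6), i ≠ k → v i = 0 ∨ v k = 0 := by
    intro i k hik
    obtain ⟨d, hd⟩ : ∃ d : Dg, d.1 i ≠ d.1 k := by
      have hall : ∀ i k : Fin 6, i ≠ k → ∃ d : Dg, d.1 i ≠ d.1 k := by
        intro i k hik
        refine ⟨⟨Function.update (Function.update 1 i K4.w) k K4.v, ?_, ?_⟩, ?_⟩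
        · revert i k; decide +kernel
        · revert i k; decide +kernel
        · revert i k; decide +kernel
      exact hall i k hik
    obtain ⟨d', hd'⟩ := mem_Ad.1 (h _ (mem_Ad.2 ⟨d, rfl⟩))
    have e : act (mel 1 d) v = d'.1 j • v := by
      rw [hv, ← act_mul, show mel 1 d * n = n * mel 1 d' by rw [← hd']; group, act_mul, act_mel_bv, act_smul]
      rfl
    have ei := congrFun e i
    have ek := congrFun e k
    rw [act_mel, Pi.smul_apply, smul_eq_mul] at ei ek
    change d.1 i * v i = d'.1 j * v i at ei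
    change d.1 k * v k = d'.1 j * v k at ek
    by_contra hc
    push Not at hc
    exact hd ((mul_right_cancel₀ hc.1 ei).trans (mul_right_cancel₀ hc.2 ek).symm)
  obtain ⟨i, hi⟩ := Function.ne_iff.1 hv0
  refine ⟨i, v i, funext fun k => ?_⟩
  by_cases hk : k = i
  · subst hk; simp [bv]
  · rw [(key k i hk).resolve_right hi]; simp [bv, hk]

end Cfsg.Agent.U43InU62
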