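import Cfsg.Agent.Lib.U43InU62.Group

/-!
Orbits of frames, and the only extensions of the even monomial group by a second-frame element.
-/

set_option autoImplicit false
set_option maxRecDepth 100000

namespace Cfsg.Agent.U43InU62

open Cfsg.Agent.RigidGraph.He
open Cfsg.Agent.PermCert
open Cfsg.Agent.SchurMult (u43Gens u43Derived u43Levels u43_cert u43_order)
open Matrix

/-- A tree of images. -/
def treeOk (P : ℕ → Elt) : List ℕ → List (ℕ × ℕ × ℕ) → Bool
  | _, [] => true
  | L, (c, p, k) :: T => (L.any fun x => Nat.beq x p) && (Nat.blt k 9 && Nat.blt p 112) &&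
      Nat.beq (get 7 (P k).1 p) c && treeOk P (L ++ [c]) T

theorem tree_reach (P : ℕ → Elt) (r : Fin 112) (gs : ℕ → S6) (hv : ∀ k < 9, validElt 7 112 (P k) = true)
    (hg : ∀ k < 9, Moves (gs k) (toPerm 7 112 (P k))) {H : Subgroup S6} (hH : ∀ k < 9, gs k ∈ H) :
    ∀ (T : List (ℕ × ℕ × ℕ)) (L : List ℕ),
      (∀ c ∈ L, ∃ h ∈ H, ∃ π, Moves h π ∧ (π r : ℕ) = c) → treeOk P L T = true →
      ∀ c ∈ L ++ T.map Prod.fst, ∃ h ∈ H, ∃ π, Moves h π ∧ (π r : ℕ) = c := by
  intro T
  induction T with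
  | nil => intro L hL _; simpa using hL
  | cons t T ih =>
    obtain ⟨c, p, k⟩ := t
    intro L hL ht
    simp only [treeOk, Bool.and_eq_true, List.any_eq_true, Nat.beq_eq, Nat.blt_eq] at ht
    obtain ⟨⟨⟨⟨x, hx, hxp⟩, hk, -⟩, hc⟩, hT⟩ := ht
    obtain ⟨h, hh, π, hm, hπ⟩ := hL x hx
    have hnew : ∃ h ∈ H, ∃ π, Moves h π ∧ (π r : ℕ) = c := by
      refine ⟨gs k * h, mul_mem (hH k hk) hh, _, (hg k hk).mul hm, ?_⟩
      rw [Equiv.Perm.mul_apply, ← (rep_toPerm (hv k hk) (π r)).1, hπ, hxp, hc]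
    intro d hd
    refine ih (L ++ [c]) (fun e he => ?_) hT d (by simpa using hd)
    rcases List.mem_append.1 he with he | he
    · exact hL e he
    · rw [List.mem_singleton.1 he]; exact hnew

theorem tau_checks : validElt 7 112 tauCode = true ∧ sift 7 112 u43Levels tauCode.1 = true ∧ tauMat.det = 1 ∧
    tauMatᵀ * tauMat.map (fun x => x * x) = 1 ∧ MapsCode tauMat tauCode ∧
    validElt 7 112 (mul 7 112 tauCode sigmaCode) = true := by decide +kernel

theorem exists_tau : ∃ g : S6, mat g = tauMat := exists_mem_of_unitary _ tau_checks.2.2.1 tau_checks.2.2.2.1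

/-- The element taking the standard frame to the second frame. -/
noncomputable def tau : S6 := exists_tau.choose

theorem mat_tau : mat tau = tauMat := exists_tau.choose_spec

theorem tau_moves : Moves tau (toPerm 7 112 tauCode) :=
  moves_of_code mat_tau tau_checks.1 tau_checks.2.2.2.2.1

theorem tau_mem : tau ∈ K0 := mem_K0_of_code mat_tau tau_checks.1 tau_checks.2.1 tau_checks.2.2.2.2.1

theorem tauSigma_moves : Moves (tau * sigma) (toPerm 7 112 (mul 7 112 tauCode sigmaCode)) := by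
  rw [toPerm_mul tau_checks.1 sigma_checks.1 tau_checks.2.2.2.2.2]
  exact tau_moves.mul sigma_moves

/-- The nine generators with a given last one. -/
def gens9 (g : S6) (k : ℕ) : S6 := if h : k < 8 then gel ⟨k, h⟩ else g

/-- Their codes. -/
def codes9 (e : Elt) (k : ℕ) : Elt := if h : k < 8 then gcode ⟨k, h⟩ else e

theorem trees_ok : (∀ k < 9, validElt 7 112 (codes9 tauCode k) = true) ∧
    (∀ k < 9, validElt 7 112 (codes9 (mul 7 112 tauCode sigmaCode) k) = true) ∧
    treeOk (codes9 tauCode) [(base : ℕ)] treeTau = true ∧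
    (∀ i : Fin 112, (i : ℕ) ∈ [(base : ℕ)] ++ treeTau.map Prod.fst) ∧
    treeOk (codes9 (mul 7 112 tauCode sigmaCode)) [(base : ℕ)] treeBad = true ∧
    (∀ i : Fin 112, (i : ℕ) ∈ [(base : ℕ)] ++ treeBad.map Prod.fst) := by decide +kernel

theorem gens9_moves {g : S6} {e : Elt} (h : Moves g (toPerm 7 112 e)) :
    ∀ k < 9, Moves (gens9 g k) (toPerm 7 112 (codes9 e k)) := by
  intro k _
  by_cases hk : k < 8
  · simp only [gens9, codes9, hk, dif_pos]; exact gel_moves _
  · simp only [gens9, codes9, hk, dif_neg, not_false_eq_true]; exact h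

theorem gel_mem_N0 (k : Fin 8) : gel k ∈ N0 := mem_N0.2 ⟨_, genPerm_sign k, _, rfl⟩

/-- A transitive subgroup is large. -/
theorem card_mul_le {H : Subgroup S6} (hreach : ∀ i, ∃ h ∈ H, ∃ π, Moves h π ∧ π base = i) (X : Subgroup S6)
    (hX : X ≤ H) (hfix : ∀ x ∈ X, ∀ u ∈ Frame base, act x u ∈ Frame base) :
    112 * Nat.card ↥X ≤ Nat.card ↥H := by
  choose h hh π hm hπ using hreach
  have key : Function.Injective (fun y : Fin 112 × ↥X => (⟨h y.1 * y.2.1, mul_mem (hh _) (hX y.2.2)⟩ : ↥H)) := by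
    rintro ⟨i, x⟩ ⟨j, y⟩ e
    have e' : h i * x.1 = h j * y.1 := congrArg Subtype.val e
    have h1 := hm i base _ (hfix _ x.2 _ (bv_mem 0))
    have h2 := hm j base _ (hfix _ y.2 _ (bv_mem 0))
    rw [← act_mul, e', act_mul, hπ] at h1
    rw [hπ] at h2
    obtain rfl := frame_inj h1 h2
    exact Prod.ext rfl (Subtype.ext (mul_left_cancel e'))
  have := Nat.card_le_card_of_injective _ key
  rwa [Nat.card_prod, Nat.card_fin] at this

theorem fix_of_Nall {x : S6} (hx : x ∈ Nall) : ∀ u ∈ Frame base, act x u ∈ Frame base := by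
  obtain ⟨π, d, rfl⟩ := hx
  rintro _ ⟨a, c, hc, rfl⟩
  refine ⟨π a, c * d.1 a, mul_ne_zero hc (d.2.1 a), ?_⟩
  rw [fr_base_eq, fr_base_eq, act_smul, act_mel_bv, smul_smul]

theorem reach_K0 : ∀ i, ∃ h ∈ K0, ∃ π, Moves h π ∧ π base = i := fun i => by
  obtain ⟨h, hh, π, hm, hπ⟩ := tree_reach _ base _ trees_ok.1 (gens9_moves tau_moves) (H := K0)
    (fun k _ => by
      by_cases hk : k < 8
      · simp only [gens9, hk, dif_pos]; exact gel_mem _
      · simp only [gens9, hk, dif_neg, not_false_eq_true]; exact tau_mem)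
    _ _ (fun c hc => ⟨1, one_mem _, 1, moves_one, (List.mem_singleton.1 hc).symm⟩) trees_ok.2.2.1 _ (trees_ok.2.2.2.1 i)
  exact ⟨h, hh, π, hm, Fin.ext hπ⟩

theorem stab_base {g : S6} {π : Equiv.Perm (Fin 112)} (h : Moves g π) (hb : π base = base) : g ∈ Nall :=
  exists_mel fun j => by
    obtain ⟨a, c, -, e⟩ := h base _ (bv_mem j)
    exact ⟨a, c, e.trans (by rw [hb, fr_base_eq])⟩

theorem K0_inf_Nall : K0 ⊓ Nall = N0 := by
  have h1 : N0 ≤ K0 ⊓ Nall := le_inf N0_le_K0 (monoSub_le _)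
  refine (Subgroup.eq_of_le_of_card_ge h1 ?_).symm
  have h2 := card_mul_le reach_K0 (K0 ⊓ Nall) inf_le_left fun x hx => fix_of_Nall hx.2
  rw [card_K0] at h2
  rw [card_N0]
  omega

theorem sigma_not_mem : sigma ∉ K0 := fun h => by
  obtain ⟨π, hπ, d, e⟩ := mem_N0.1 (K0_inf_Nall ▸ Subgroup.mem_inf.2 ⟨h, mel_mem _ _⟩)
  rw [← (mel_inj e).1, Equiv.Perm.sign_swap (by decide)] at hπ
  exact absurd hπ (by decide)

/-- The hypothesis on a competing subgroup. -/
def Almost (K : Subgroup S6) : Prop :=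
  Nat.card ↥K = 9797760 ∧ ∀ N : Subgroup S6, N0 ≤ N → N ≤ K → (∀ k ∈ K, ∀ x ∈ N, k * x * k⁻¹ ∈ N) → N = K

theorem eq_K0 {K : Subgroup S6} (hK : Almost K) (hN : N0 ≤ K) {g : S6} (hg : g = tau ∨ g = tau * sigma)
    (hgK : g ∈ K) : K = K0 := by
  obtain ⟨e, he, T, hT, hT'⟩ : ∃ e : Elt, ((∀ k < 9, validElt 7 112 (codes9 e k) = true) ∧
      Moves g (toPerm 7 112 e)) ∧ ∃ T, treeOk (codes9 e) [(base : ℕ)] T = true ∧
        ∀ i : Fin 112, (i : ℕ) ∈ [(base : ℕ)] ++ T.map Prod.fst := by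
    rcases hg with rfl | rfl
    · exact ⟨_, ⟨trees_ok.1, tau_moves⟩, _, trees_ok.2.2.1, trees_ok.2.2.2.1⟩
    · exact ⟨_, ⟨trees_ok.2.1, tauSigma_moves⟩, _, trees_ok.2.2.2.2.1, trees_ok.2.2.2.2.2⟩
  let H := Subgroup.closure ((N0 : Set S6) ∪ {g})
  have hHK : H ≤ K := (Subgroup.closure_le _).2 (Set.union_subset hN (Set.singleton_subset_iff.2 hgK))
  have hNH : N0 ≤ H := fun x hx => Subgroup.subset_closure (Or.inl hx)
  have hr : ∀ i, ∃ h ∈ H, ∃ π, Moves h π ∧ π base = i := fun i => by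
    obtain ⟨h, hh, π, hm, hπ⟩ := tree_reach _ base _ he.1 (gens9_moves he.2) (H := H)
      (fun k _ => by
        by_cases hk : k < 8
        · simp only [gens9, hk, dif_pos]; exact hNH (gel_mem_N0 _)
        · simp only [gens9, hk, dif_neg, not_false_eq_true]; exact Subgroup.subset_closure (Or.inr rfl))
      _ _ (fun c hc => ⟨1, one_mem _, 1, moves_one, (List.mem_singleton.1 hc).symm⟩) hT _ (hT' i)
    exact ⟨h, hh, π, hm, Fin.ext hπ⟩
  have hle := card_mul_le hr N0 hNH fun x hx => fix_of_Nall (monoSub_le _ hx)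
  rw [card_N0] at hle
  have hHK' : H = K := Subgroup.eq_of_le_of_card_ge hHK (by rw [hK.1]; omega)
  have hnorm : H ≤ Subgroup.normalizer (K0 : Set S6) := by
    refine (Subgroup.closure_le _).2 fun x hx => Subgroup.mem_normalizer_fintype fun y hy => ?_
    rcases hx with hx | hx
    · exact normal_Nall (monoSub_le _ hx) hy
    · rw [Set.mem_singleton_iff] at hx
      subst hx
      rcases hg with rfl | rfl
      · exact mul_mem (mul_mem tau_mem hy) (inv_mem tau_mem)
      · have h1 := mul_mem (mul_mem tau_mem (sigma_normal hy)) (inv_mem tau_mem)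
        rwa [show tau * (sigma * y * sigma⁻¹) * tau⁻¹ = tau * sigma * y * (tau * sigma)⁻¹ by group] at h1
  have hKK : K ⊓ K0 = K := hK.2 _ (le_inf hN N0_le_K0) inf_le_left fun k hk x hx =>
    Subgroup.mem_inf.2 ⟨K.mul_mem (K.mul_mem hk hx.1) (K.inv_mem hk), ((Subgroup.mem_normalizer_iff.1 (hnorm (hHK'.ge hk))) x).1 hx.2⟩
  exact Subgroup.eq_of_le_of_card_ge (inf_eq_left.1 hKK) (by rw [hK.1, card_K0])

theorem orbit_second : (∀ k : Fin 8, ∀ i : Fin 112, (i : ℕ) ∈ [(second : ℕ)] ++ treeSecond.map Prod.fst →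
      get 7 (gcode k).1 (i : Fin 112) ∈ [(second : ℕ)] ++ treeSecond.map Prod.fst) ∧
    treeOk (codes9 (one 7 112)) [(second : ℕ)] treeSecond = true ∧
    (∀ k < 9, validElt 7 112 (codes9 (one 7 112) k) = true) ∧
    (Finset.univ.filter fun i : Fin 112 => (i : ℕ) ∈ [(second : ℕ)] ++ treeSecond.map Prod.fst).card = 30 ∧
    get 7 tauCode.1 (base : Fin 112) = (second : ℕ) := by decide +kernel

/-- The intersection of the even monomial group with its conjugate by tau. -/
noncomputable def X0 : Subgroup S6 := N0 ⊓ N0.map (MulAut.conj tau).toMonoidHom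

theorem card_X0 : Nat.card ↥X0 = 2916 := by
  classical
  let f : ↥N0 →* Equiv.Perm (Fin 112) := Gen.subtype.comp (ψ.comp (Subgroup.inclusion N0_le_K0))
  have hf : ∀ n : ↥N0, Moves n.1 (f n) := fun n => psi_spec _
  let _ := MulAction.compHom (Fin 112) f
  have horb : MulAction.orbit ↥N0 second =
      {i : Fin 112 | (i : ℕ) ∈ [(second : ℕ)] ++ treeSecond.map Prod.fst} := by
    refine Set.Subset.antisymm ?_ fun i hi => ?_
    · rintro _ ⟨n, rfl⟩
      let S : Set (Fin 112) := {i | (i : ℕ) ∈ [(second : ℕ)] ++ treeSecond.map Prod.fst}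
      let M : Submonoid S6 :=
        { carrier := {g | ∃ π, Moves g π ∧ ∀ i ∈ S, π i ∈ S}
          one_mem' := ⟨1, moves_one, fun i hi => hi⟩
          mul_mem' := by
            rintro _ _ ⟨π, h1, h2⟩ ⟨π', h3, h4⟩
            exact ⟨π * π', h1.mul h3, fun i hi => h2 _ (h4 i hi)⟩ }
      suffices N0 ≤ finSub M from by
        obtain ⟨π, hm, hS⟩ := this n.2
        show f n second ∈ S
        rw [(hf n).unique hm]
        exact hS _ (List.mem_append_left _ (List.mem_singleton_self _))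
      refine N0_le_of fun k => ?_
      refine ⟨_, gel_moves k, fun i hi => ?_⟩
      show ((toPerm 7 112 (gcode k) i : Fin 112) : ℕ) ∈ [(second : ℕ)] ++ treeSecond.map Prod.fst
      rw [← (rep_toPerm (gen_checks k).1 i).1]
      exact orbit_second.1 k i hi
    · obtain ⟨h, hh, π, hm, hπ⟩ := tree_reach _ second _ orbit_second.2.2.1
        (gens9_moves (g := 1) (e := one 7 112) (by
          rw [show toPerm 7 112 (one 7 112) = 1 from rep_unique
            (rep_toPerm (orbit_second.2.2.1 8 (by norm_num))) (rep_one (by norm_num))]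
          exact moves_one)) (H := N0)
        (fun k _ => by
          by_cases hk : k < 8
          · simp only [gens9, hk, dif_pos]; exact gel_mem_N0 _
          · simp only [gens9, hk, dif_neg, not_false_eq_true]; exact one_mem _)
        _ _ (fun c hc => ⟨1, one_mem _, 1, moves_one, (List.mem_singleton.1 hc).symm⟩) orbit_second.2.1 _ hi
      exact ⟨⟨h, hh⟩, Fin.ext (by show ((f ⟨h, hh⟩ second : Fin 112) : ℕ) = _; rw [(hf ⟨h, hh⟩).unique hm, hπ])⟩
  have hidx := MulAction.index_stabilizer ↥N0 second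
  rw [horb, ← Nat.card_coe_set_eq, Nat.card_eq_fintype_card,
    show Fintype.card {i : Fin 112 | (i : ℕ) ∈ [(second : ℕ)] ++ treeSecond.map Prod.fst} = 30 from
      (Set.toFinset_card _).symm.trans ((congrArg Finset.card (by ext; simp)).trans orbit_second.2.2.2.1)] at hidx
  have hs : toPerm 7 112 tauCode base = second := Fin.ext (by
    rw [← (rep_toPerm tau_checks.1 base).1]; exact orbit_second.2.2.2.2)
  have hstab : (MulAction.stabilizer ↥N0 second).map N0.subtype = X0 := by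
    ext x
    constructor
    · rintro ⟨n, hn, rfl⟩
      refine ⟨n.2, tau⁻¹ * n.1 * tau, K0_inf_Nall.le ?_, by simp [mul_assoc]⟩
      have hK : tau⁻¹ * n.1 * tau ∈ K0 := mul_mem (mul_mem (inv_mem tau_mem) (N0_le_K0 n.2)) tau_mem
      refine ⟨hK, ?_⟩
      have hm : Moves tau⁻¹ (toPerm 7 112 tauCode)⁻¹ := by
        have := psi_spec ⟨_, inv_mem tau_mem⟩
        rwa [show (ψ ⟨tau⁻¹, inv_mem tau_mem⟩).1 = (toPerm 7 112 tauCode)⁻¹ by
          rw [show (⟨tau⁻¹, inv_mem tau_mem⟩ : ↥K0) = (⟨tau, tau_mem⟩ : ↥K0)⁻¹ from rfl, map_inv,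
            Subgroup.coe_inv, psi_eq tau_mem tau_moves]] at this
      refine stab_base ((hm.mul (hf n)).mul tau_moves) ?_
      have hn' : f n second = second := hn
      rw [Equiv.Perm.mul_apply, Equiv.Perm.mul_apply, hs, hn', ← hs]
      exact (toPerm 7 112 tauCode).symm_apply_apply base
    · rintro ⟨hx, y, hy, rfl⟩
      refine ⟨⟨_, hx⟩, ?_, rfl⟩
      show f _ second = second
      have h1 := psi_spec ⟨y, N0_le_K0 hy⟩
      have hb : (ψ ⟨y, N0_le_K0 hy⟩).1 base = base :=
        frame_inj (h1 base _ (fr_mem base 0)) (fix_of_Nall (monoSub_le _ hy) _ (fr_mem base 0))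
      refine frame_inj (hf ⟨_, hx⟩ second _ (hs ▸ tau_moves base _ (fr_mem base 0))) ?_
      show act (tau * y * tau⁻¹) _ ∈ _
      rw [← act_mul, inv_mul_cancel_right, act_mul]
      refine hs ▸ tau_moves base _ ?_
      exact fix_of_Nall (monoSub_le _ hy) _ (fr_mem base 0)
  rw [← hstab, Subgroup.card_map_of_injective N0.subtype_injective]
  have := Subgroup.card_mul_index (MulAction.stabilizer ↥N0 second)
  rw [hidx, card_N0] at this
  omega

end Cfsg.Agent.U43InU62
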