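import Cfsg.Agent.Lib.U43InU62.Orbit
import Mathlib.GroupTheory.Sylow

/-!
Every parabolic of shape 3^5.A6 is conjugate to the even monomial group.
-/

set_option autoImplicit false
set_option maxRecDepth 100000

namespace Cfsg.Agent.U43InU62

open Cfsg.Agent.RigidGraph.He
open Matrix

/-- The nine coordinate permutations of a Sylow 3-subgroup. -/
def p9List : List (Equiv.Perm (Fin 6)) :=
  let a := genPerm 5; let b := genPerm 7
  [1, a, a * a, b, b * b, a * b, a * (b * b), a * a * b, a * a * (b * b)]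

theorem p9_closed : ∀ x ∈ p9List, ∀ y ∈ p9List, x * y ∈ p9List := by decide +kernel

theorem p9_card : p9List.toFinset.card = 9 := by decide +kernel

theorem p9_sign : ∀ x ∈ p9List, Equiv.Perm.sign x = 1 := by decide +kernel

theorem p9_gens : genPerm 5 ∈ p9List ∧ genPerm 7 ∈ p9List := by decide +kernel

/-- The coordinate permutations of a Sylow 3-subgroup. -/
def P9 : Subgroup (Equiv.Perm (Fin 6)) :=
  finSub
    { carrier := {x | x ∈ p9List}
      one_mem' := List.mem_cons_self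
      mul_mem' := fun {a b} ha hb => p9_closed a ha b hb }

theorem card_P9 : Nat.card ↥P9 = 9 := by
  classical
  rw [← p9_card, ← Nat.card_eq_finsetCard]
  exact Nat.card_congr (Equiv.subtypeEquivRight fun x => List.mem_toFinset.symm)

/-- A Sylow 3-subgroup. -/
noncomputable def P : Subgroup S6 := monoSub P9

theorem card_P : Nat.card ↥P = 2187 := by rw [P, card_monoSub, card_P9, card_Dg]

theorem P_le_N0 : P ≤ N0 := fun g hg => by
  obtain ⟨π, hπ, d, rfl⟩ := mem_monoSub.1 hg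
  exact mem_N0.2 ⟨π, p9_sign π hπ, d, rfl⟩

/-- d commutes with π modulo scalars. -/
def Cent (π : Equiv.Perm (Fin 6)) (d : Dg) : Prop := ∀ i j, d.1 i * d.1 (π j) = d.1 j * d.1 (π i)

instance (π : Equiv.Perm (Fin 6)) : DecidablePred (Cent π) := fun d => by unfold Cent; infer_instance

theorem cent_one : ∀ π ∈ p9List, π ≠ 1 → (Finset.univ.filter (Cent π)).card ≤ 27 := by decide +kernel

theorem cent_two : (Finset.univ.filter fun d => Cent (genPerm 5) d ∧ Cent (genPerm 7) d).card ≤ 9 := by decide +kernel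

theorem cent_of_comm {π : Equiv.Perm (Fin 6)} {e d : Dg}
    (h : mel π e * mel 1 d * (mel π e)⁻¹ * (mel 1 d)⁻¹ ∈ Z) : Cent π d := by
  obtain ⟨c, hc, he⟩ := mem_Z_iff.1 h
  have : mel π e * mel 1 d = mel 1 c * (mel 1 d * mel π e) := by rw [← he]; group
  rw [mel_mul, mel_mul, mel_mul, mul_one, one_mul, one_mul] at this
  have hd : ∀ j, d.1 j * e.1 j = e.1 j * d.1 (π j) * c.1 0 := fun j => by
    have := congrFun (congrArg Subtype.val (mel_inj this).2) j
    exact this.trans (congrArg (e.1 j * d.1 (π j) * ·) (hc _))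
  intro i j
  have hi : d.1 i = d.1 (π i) * c.1 0 := mul_right_cancel₀ (e.2.1 i) (by rw [hd i]; ring)
  have hj : d.1 j = d.1 (π j) * c.1 0 := mul_right_cancel₀ (e.2.1 j) (by rw [hd j]; ring)
  rw [hi, hj]; ring

theorem Ad_eq_of_le {R : Subgroup S6} (hRP : R ≤ P) (hR : Nat.card ↥R = 243)
    (hc : ∀ x ∈ R, ∀ y ∈ R, x * y * x⁻¹ * y⁻¹ ∈ Z) : R = Ad := by
  classical
  have hRN : R ≤ Nall := hRP.trans (monoSub_le _)
  let q : ↥R →* Equiv.Perm (Fin 6) := pr.comp (Subgroup.inclusion hRN)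
  have hmem : ∀ (π : Equiv.Perm (Fin 6)) (e : Dg) (h : mel π e ∈ R), q ⟨_, h⟩ = π := fun π e h => pr_mel π e
  have hcard := Subgroup.card_eq_card_quotient_mul_card_subgroup q.ker
  rw [Nat.card_congr (QuotientGroup.quotientKerEquivRange q).toEquiv, hR] at hcard
  have hrange : q.range ≤ P9 := by
    rintro _ ⟨⟨g, hg⟩, rfl⟩
    obtain ⟨π, hπ, e, rfl⟩ := mem_monoSub.1 (hRP hg)
    rwa [hmem]
  have hkd : ∀ x : ↥q.ker, ∃ d : Dg, x.1.1 = mel 1 d := fun x => by
    obtain ⟨π, -, e, he⟩ := mem_monoSub.1 (hRP x.1.2)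
    have hx : q x.1 = 1 := x.2
    obtain rfl : π = 1 := by rw [← hx, ← hmem π e (he ▸ x.1.2)]; exact congrArg q (Subtype.ext he.symm)
    exact ⟨e, he⟩
  choose f hf using hkd
  have hinj : Function.Injective f := fun x y h => Subtype.ext (Subtype.ext (by rw [hf, hf, h]))
  have hbound : ∀ (Q : Dg → Prop) [DecidablePred Q], (∀ x, Q (f x)) → Nat.card ↥q.ker ≤ (Finset.univ.filter Q).card :=
    fun Q _ hQ => by
      refine (Nat.card_le_card_of_injective (fun x => (⟨f x, hQ x⟩ : {d // Q d})) fun x y h => hinj (congrArg Subtype.val h)).trans ?_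
      rw [Nat.card_eq_fintype_card, Fintype.card_subtype]
  have hcent : ∀ π ∈ q.range, ∀ x, Cent π (f x) := by
    rintro _ ⟨⟨g, hg⟩, rfl⟩ x
    obtain ⟨π, -, e, rfl⟩ := mem_monoSub.1 (hRP hg)
    rw [hmem]
    have := hc _ hg _ x.1.2
    rw [hf] at this
    exact cent_of_comm this
  have hdvd := Subgroup.card_dvd_of_le hrange
  rw [card_P9] at hdvd
  obtain ⟨k, hk, hk'⟩ := (Nat.dvd_prime_pow Nat.prime_three).1 (show Nat.card ↥q.range ∣ 3 ^ 2 from hdvd)
  have h1 : q.range = ⊥ := by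
    interval_cases k
    · exact Subgroup.eq_bot_of_card_eq _ hk'
    · exfalso
      rw [hk'] at hcard
      obtain ⟨π, hπ, hne⟩ := (Subgroup.nontrivial_iff_exists_ne_one q.range).1 (Finite.one_lt_card_iff_nontrivial.1 (by rw [hk']; norm_num))
      have := (hbound _ (hcent π hπ)).trans (cent_one π (hrange hπ) hne)
      omega
    · exfalso
      rw [hk'] at hcard
      have he : q.range = P9 := Subgroup.eq_of_le_of_card_ge hrange (by rw [card_P9, hk']; norm_num)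
      have := (hbound (fun d => Cent (genPerm 5) d ∧ Cent (genPerm 7) d) fun x =>
        ⟨hcent _ (he ▸ p9_gens.1) x, hcent _ (he ▸ p9_gens.2) x⟩).trans cent_two
      omega
  refine Subgroup.eq_of_le_of_card_ge (fun g hg => ?_) (by rw [card_Ad, hR])
  obtain ⟨π, -, e, rfl⟩ := mem_monoSub.1 (hRP hg)
  have : q ⟨_, hg⟩ ∈ (⊥ : Subgroup _) := h1 ▸ ⟨_, rfl⟩
  rw [hmem, Subgroup.mem_bot] at this
  subst this
  exact mem_Ad.2 ⟨e, rfl⟩

theorem eq_N0_of_le {M : Subgroup S6} (hM : Nat.card ↥M = 87480) (hle : M ≤ Nall) (hA : Ad ≤ M) : M = N0 := by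
  let q : ↥M →* Equiv.Perm (Fin 6) := pr.comp (Subgroup.inclusion hle)
  have hmem : ∀ (π : Equiv.Perm (Fin 6)) (e : Dg) (h : mel π e ∈ M), q ⟨_, h⟩ = π := fun π e h => pr_mel π e
  have hker : q.ker.map M.subtype = Ad := by
    ext g
    constructor
    · rintro ⟨⟨x, hx⟩, hq, rfl⟩
      obtain ⟨π, e, rfl⟩ := hle hx
      have : q ⟨_, hx⟩ = 1 := hq
      rw [hmem] at this
      subst this
      exact mem_Ad.2 ⟨e, rfl⟩
    · intro hg
      obtain ⟨d, rfl⟩ := mem_Ad.1 hg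
      exact ⟨⟨_, hA hg⟩, hmem 1 d (hA hg), rfl⟩
  have hk : Nat.card ↥q.ker = 243 := by rw [← card_Ad, ← hker, Subgroup.card_map_of_injective M.subtype_injective]
  have hcard := Subgroup.card_eq_card_quotient_mul_card_subgroup q.ker
  rw [Nat.card_congr (QuotientGroup.quotientKerEquivRange q).toEquiv, hM, hk] at hcard
  have hidx : q.range.index = 2 := by
    have := Subgroup.card_mul_index q.range
    rw [Nat.card_eq_fintype_card (α := Equiv.Perm (Fin 6)), Fintype.card_perm, Fintype.card_fin,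
      show Nat.card ↥q.range = 360 by omega, show Nat.factorial 6 = 720 from rfl] at this
    omega
  have he := Equiv.Perm.eq_alternatingGroup_of_index_eq_two hidx
  refine Subgroup.eq_of_le_of_card_ge (fun g hg => ?_) (by rw [card_N0, hM])
  obtain ⟨π, e, rfl⟩ := hle hg
  have : q ⟨_, hg⟩ ∈ alternatingGroup (Fin 6) := he ▸ ⟨_, rfl⟩
  rw [hmem] at this
  exact mem_N0.2 ⟨π, Equiv.Perm.mem_alternatingGroup.1 this, e, rfl⟩

/-- Conjugation as a map. -/
noncomputable def cj (g : S6) (H : Subgroup S6) : Subgroup S6 := H.map (MulAut.conj g).toMonoidHom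

theorem mem_cj {g x : S6} {H : Subgroup S6} : x ∈ cj g H ↔ g⁻¹ * x * g ∈ H := by
  rw [cj, Subgroup.mem_map_equiv]; simp

theorem card_cj (g : S6) (H : Subgroup S6) : Nat.card ↥(cj g H) = Nat.card ↥H :=
  Subgroup.card_map_of_injective (MulAut.conj g).injective

theorem conj_to_N0 {L M R : Subgroup S6} (hPL : P ≤ L) (hL : ¬ 3 ^ 8 ∣ Nat.card ↥L) (hML : M ≤ L)
    (hM : Nat.card ↥M = 87480) (hRM : R ≤ M) (hR : Nat.card ↥R = 243)
    (hn : ∀ m ∈ M, ∀ r ∈ R, m * r * m⁻¹ ∈ R) (hc : ∀ x ∈ R, ∀ y ∈ R, x * y * x⁻¹ * y⁻¹ ∈ Z) :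
    ∃ g ∈ L, cj g M = N0 ∧ cj g R = Ad := by
  have : Fact (Nat.Prime 3) := ⟨Nat.prime_three⟩
  let R' : Subgroup ↥M := R.subgroupOf M
  have hp : IsPGroup 3 ↥R' := IsPGroup.of_card (n := 5) (by
    rw [Nat.card_congr (Subgroup.subgroupOfEquivOfLe hRM).toEquiv, hR]; norm_num)
  obtain ⟨Q, hQ⟩ := hp.exists_le_sylow
  have hQc : Nat.card ↥(Q : Subgroup ↥M) = 3 ^ 7 := by
    rw [Q.card_eq_multiplicity, hM]
    congr 1
    refine (Nat.factorization_def _ Nat.prime_three).trans ?_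
    rw [show (87480 : ℕ) = 3 ^ 7 * 40 by norm_num, padicValNat.mul (by norm_num) (by norm_num), padicValNat.prime_pow,
      padicValNat.eq_zero_of_not_dvd (by norm_num)]
  have hv : (Nat.card ↥L).factorization 3 = 7 := by
    have h7 : 3 ^ 7 ∣ Nat.card ↥L := (hQc ▸ Subgroup.card_subgroup_dvd_card _).trans (Subgroup.card_dvd_of_le hML)
    have h0 : Nat.card ↥L ≠ 0 := Nat.card_pos.ne'
    have := (Nat.prime_three.pow_dvd_iff_le_factorization h0).1 h7
    by_contra hne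
    exact hL ((Nat.prime_three.pow_dvd_iff_le_factorization h0).2 (by omega))
  let Q1 : Subgroup ↥L := (Q : Subgroup ↥M).map (Subgroup.inclusion hML)
  let Q2 : Subgroup ↥L := P.subgroupOf L
  have c1 : Nat.card ↥Q1 = 3 ^ (Nat.card ↥L).factorization 3 := by
    rw [hv, Subgroup.card_map_of_injective (Subgroup.inclusion_injective hML), hQc]
  have c2 : Nat.card ↥Q2 = 3 ^ (Nat.card ↥L).factorization 3 := by
    rw [hv, Nat.card_congr (Subgroup.subgroupOfEquivOfLe hPL).toEquiv, card_P]; norm_num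
  obtain ⟨g, hg⟩ := MulAction.exists_smul_eq ↥L (Sylow.ofCard Q1 c1) (Sylow.ofCard Q2 c2)
  have hg' : Q1.map (MulAut.conj g).toMonoidHom = Q2 := by
    have := congrArg (fun S : Sylow 3 ↥L => (S : Subgroup ↥L)) hg
    rw [Sylow.coe_subgroup_smul] at this
    exact this
  have hRP : cj g.1 R ≤ P := by
    rintro _ ⟨r, hr, rfl⟩
    have h1 : (Subgroup.inclusion hML ⟨r, hRM hr⟩) ∈ Q1 := Subgroup.mem_map_of_mem _ (hQ (Subgroup.mem_subgroupOf.2 hr))
    have h2 := hg' ▸ Subgroup.mem_map_of_mem (MulAut.conj g).toMonoidHom h1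
    exact Subgroup.mem_subgroupOf.1 h2
  have hRA : cj g.1 R = Ad := Ad_eq_of_le hRP (by rw [card_cj, hR]) (by
    rintro _ ⟨x, hx, rfl⟩ _ ⟨y, hy, rfl⟩
    have := (inferInstance : Z.Normal).conj_mem _ (hc x hx y hy) g.1
    simpa [mul_assoc] using this)
  refine ⟨g.1, g.2, eq_N0_of_le (by rw [card_cj, hM]) (fun n hn' => mem_Nall_of_normalise fun a ha => ?_) ?_, hRA⟩
  · obtain ⟨m, hm, rfl⟩ := hn'
    rw [← hRA] at ha ⊢
    obtain ⟨r, hr, rfl⟩ := ha
    refine ⟨m⁻¹ * r * m, ?_, by simp [mul_assoc]⟩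
    simpa using hn m⁻¹ (inv_mem hm) r hr
  · rw [← hRA]; exact Subgroup.map_mono hRM

/-- A subgroup covering the permutation group with the scalars as kernel. -/
structure Param (K : Subgroup S6) where
  ρ : ↥K →* ↥Gen
  surj : Function.Surjective ρ
  hZ : Z ≤ K
  ker : ρ.ker = Z.subgroupOf K

namespace Param

variable {K : Subgroup S6} (p : Param K)

/-- The preimage of a subgroup. -/
noncomputable def pre (S : Subgroup ↥Gen) : Subgroup S6 := (S.comap p.ρ).map K.subtype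

theorem pre_le (S : Subgroup ↥Gen) : p.pre S ≤ K := Subgroup.map_subtype_le _

theorem mem_pre {S : Subgroup ↥Gen} {x : S6} : x ∈ p.pre S ↔ ∃ h : x ∈ K, p.ρ ⟨x, h⟩ ∈ S :=
  ⟨fun ⟨y, hy, e⟩ => e ▸ ⟨y.2, hy⟩, fun ⟨h, hS⟩ => ⟨⟨x, h⟩, hS, rfl⟩⟩

theorem card_pre (S : Subgroup ↥Gen) : Nat.card ↥(p.pre S) = 3 * Nat.card ↥S := by
  rw [pre, Subgroup.card_map_of_injective K.subtype_injective]
  have h1 := Subgroup.card_mul_index (S.comap p.ρ)
  rw [Subgroup.index_comap_of_surjective S p.surj] at h1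
  have h2 := Subgroup.card_mul_index S
  have h3 := Subgroup.card_eq_card_quotient_mul_card_subgroup p.ρ.ker
  rw [Nat.card_congr (QuotientGroup.quotientKerEquivOfSurjective p.ρ p.surj).toEquiv, p.ker,
    Nat.card_congr (Subgroup.subgroupOfEquivOfLe p.hZ).toEquiv, card_Z] at h3
  have hpos : 0 < S.index := Nat.pos_of_ne_zero Subgroup.index_ne_zero_of_finite
  refine Nat.eq_of_mul_eq_mul_right hpos ?_
  rw [h1, h3, mul_assoc, h2, mul_comm]

include p in
theorem card : Nat.card ↥K = 9797760 := by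
  have h3 := Subgroup.card_eq_card_quotient_mul_card_subgroup p.ρ.ker
  rw [Nat.card_congr (QuotientGroup.quotientKerEquivOfSurjective p.ρ p.surj).toEquiv, p.ker,
    Nat.card_congr (Subgroup.subgroupOfEquivOfLe p.hZ).toEquiv, card_Z, card_Gen] at h3
  exact h3

include p in
theorem almost : Almost K := by
  refine ⟨p.card, fun N hN0 hNK hn => ?_⟩
  have := gen_simple
  have hN' : (N.subgroupOf K).Normal := ⟨fun x hx k => hn k.1 k.2 x.1 hx⟩
  have hnor : ((N.subgroupOf K).map p.ρ).Normal := hN'.map p.ρ p.surj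
  have hker : p.ρ.ker ≤ N.subgroupOf K := by
    rw [p.ker]; exact fun x hx => hN0 (Ad_le_N0 (Z_le_Ad hx))
  rcases hnor.eq_bot_or_eq_top with h | h
  · exfalso
    have hle : N.subgroupOf K ≤ Z.subgroupOf K := p.ker ▸ (Subgroup.map_eq_bot_iff _).1 h
    have := Nat.card_le_card_of_injective (fun x : ↥N0 => (⟨x.1, hle (show (⟨x.1, hNK (hN0 x.2)⟩ : ↥K) ∈ N.subgroupOf K from hN0 x.2)⟩ : ↥Z))
      fun a b e => Subtype.ext (congrArg (fun z : ↥Z => z.1) e)
    rw [card_N0, card_Z] at this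
    omega
  · refine le_antisymm hNK fun x hx => ?_
    have := (Subgroup.comap_map_eq_self hker).symm.trans (by rw [h, Subgroup.comap_top])
    exact (this.ge (Subgroup.mem_top (⟨x, hx⟩ : ↥K)) : _)

end Param

/-- The covering of the standard copy. -/
noncomputable def param0 : Param K0 := ⟨ψ, psi_surjective, Z_le_K0, psi_ker⟩

/-- The image of a subgroup of the standard copy. -/
noncomputable def img (H : Subgroup S6) : Subgroup ↥Gen := (H.subgroupOf K0).map ψ

theorem pre_img {H : Subgroup S6} (hH : H ≤ K0) (hZH : Z ≤ H) : param0.pre (img H) = H := by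
  rw [Param.pre, img]
  change ((Subgroup.map ψ (H.subgroupOf K0)).comap ψ).map K0.subtype = H
  rw [Subgroup.comap_map_eq_self (by rw [psi_ker]; exact fun x hx => hZH hx), Subgroup.map_subgroupOf_eq_of_le hH]

theorem card_img {H : Subgroup S6} (hH : H ≤ K0) (hZH : Z ≤ H) : 3 * Nat.card ↥(img H) = Nat.card ↥H := by
  rw [← Param.card_pre param0, pre_img hH hZH]

theorem mem_img {H : Subgroup S6} (hH : H ≤ K0) {x : S6} (hx : x ∈ H) : ψ ⟨x, hH hx⟩ ∈ img H :=
  ⟨⟨x, hH hx⟩, hx, rfl⟩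

theorem Z_le_N0 : Z ≤ N0 := Z_le_Ad.trans Ad_le_N0

theorem Ad_le_K0 : Ad ≤ K0 := Ad_le_N0.trans N0_le_K0

theorem Ad_normal {n a : S6} (hn : n ∈ Nall) (ha : a ∈ Ad) : n * a * n⁻¹ ∈ Ad :=
  conj_mem_monoSub inferInstance hn ha

/-- Every covering has a conjugate containing the even monomial group as the same preimage. -/
theorem Param.exists_normalised {K : Subgroup S6} (p : Param K) :
    ∃ g, cj g (p.pre (img N0)) = N0 := by
  have hS : ¬ 3 ^ 8 ∣ Nat.card ↥(⊤ : Subgroup S6) := by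
    obtain ⟨m, hm, h3⟩ := card_S6
    rw [Subgroup.card_top, hm]
    intro h
    rw [pow_succ] at h
    exact h3 (Nat.dvd_of_mul_dvd_mul_left (by norm_num) h)
  have hM : Nat.card ↥(p.pre (img N0)) = 87480 := by rw [p.card_pre, card_img N0_le_K0 Z_le_N0, card_N0]
  have hR : Nat.card ↥(p.pre (img Ad)) = 243 := by rw [p.card_pre, card_img Ad_le_K0 Z_le_Ad, card_Ad]
  have hRM : p.pre (img Ad) ≤ p.pre (img N0) := fun x hx => by
    obtain ⟨h, hS⟩ := p.mem_pre.1 hx
    exact p.mem_pre.2 ⟨h, Subgroup.map_mono (Subgroup.comap_mono Ad_le_N0 : Ad.subgroupOf K0 ≤ N0.subgroupOf K0) hS⟩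
  have hn : ∀ m ∈ p.pre (img N0), ∀ r ∈ p.pre (img Ad), m * r * m⁻¹ ∈ p.pre (img Ad) := fun m hm r hr => by
    obtain ⟨h1, ⟨a, ha, e1⟩⟩ := p.mem_pre.1 hm
    obtain ⟨h2, ⟨b, hb, e2⟩⟩ := p.mem_pre.1 hr
    refine p.mem_pre.2 ⟨mul_mem (mul_mem h1 h2) (inv_mem h1), a * b * a⁻¹, Ad_normal (monoSub_le _ ha) hb, ?_⟩
    show ψ (a * b * a⁻¹) = p.ρ (⟨m, h1⟩ * ⟨r, h2⟩ * ⟨m, h1⟩⁻¹)
    rw [map_mul, map_mul, map_inv, map_mul, map_mul, map_inv, e1, e2]
  have hc : ∀ x ∈ p.pre (img Ad), ∀ y ∈ p.pre (img Ad), x * y * x⁻¹ * y⁻¹ ∈ Z := fun x hx y hy => by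
    obtain ⟨h1, ⟨a, ha, e1⟩⟩ := p.mem_pre.1 hx
    obtain ⟨h2, ⟨b, hb, e2⟩⟩ := p.mem_pre.1 hy
    have hab : a * b = b * a := Subtype.ext (ad_comm ha hb)
    have : (⟨x, h1⟩ * ⟨y, h2⟩ * ⟨x, h1⟩⁻¹ * ⟨y, h2⟩⁻¹ : ↥K) ∈ p.ρ.ker := by
      rw [MonoidHom.mem_ker, map_mul, map_mul, map_mul, map_inv, map_inv, ← e1, ← e2, ← map_inv, ← map_inv,
        ← map_mul, ← map_mul, ← map_mul, hab, mul_inv_cancel_right, mul_inv_cancel, map_one]
    rw [p.ker] at this
    exact this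
  obtain ⟨g, -, h, -⟩ := conj_to_N0 le_top hS le_top hM hRM hR hn hc
  exact ⟨g, h⟩

end Cfsg.Agent.U43InU62
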