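import Cfsg.Agent.Lib.U43InU62.Mono
import Cfsg.Agent.Lib.U43InU62.Frames

/-!
Orthonormal points: the supports of a frame stabilised by many diagonal elements.
-/

set_option autoImplicit false
set_option maxRecDepth 100000

namespace Cfsg.Agent.U43InU62

open Cfsg.Agent.RigidGraph.He
open Matrix

/-- The support of a vector. -/
def supp (v : V6) : Finset (Fin 6) := Finset.univ.filter fun k => v k ≠ 0

theorem mem_supp {v : V6} {k : Fin 6} : k ∈ supp v ↔ v k ≠ 0 := by simp [supp]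

/-- The diagonals constant on a set. -/
def ConstOn (T : Finset (Fin 6)) (d : Dg) : Prop := ∀ i ∈ T, ∀ j ∈ T, d.1 i = d.1 j

instance (T : Finset (Fin 6)) : DecidablePred (ConstOn T) := fun d => by unfold ConstOn; infer_instance

theorem const_count : ∀ T : Finset (Fin 6), T.card % 2 = 1 → 27 ≤ (Finset.univ.filter (ConstOn T)).card →
    T.card = 1 ∨ (T.card = 3 ∧ (Finset.univ.filter (ConstOn T)).card = 27) := by decide +kernel

/-- The size of the setwise stabiliser of a triple. -/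
theorem triple_stab : ∀ T : Finset (Fin 6), T.card = 3 →
    (Finset.univ.filter fun π : Equiv.Perm (Fin 6) => Equiv.Perm.sign π = 1 ∧ ∀ k ∈ T, π k ∈ T).card = 18 := by
  decide +kernel

theorem triple_move : ∀ T : Finset (Fin 6), T.card = 3 → ∃ π : Equiv.Perm (Fin 6), Equiv.Perm.sign π = 1 ∧
    ∀ k : Fin 6, π k ∈ T ↔ k < 3 := by decide +kernel

theorem second_lines : ∀ s : V6,
    (((∀ k : Fin 6, s k = 0 ↔ 3 ≤ k) ∧ ((s 0 = s 1 ∧ s 1 = s 2) ∨ (s 0 ≠ s 1 ∧ s 1 ≠ s 2 ∧ s 0 ≠ s 2))) ∨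
      ((∀ k : Fin 6, s k = 0 ↔ k < 3) ∧ ((s 3 = s 4 ∧ s 4 = s 5) ∨ (s 3 ≠ s 4 ∧ s 4 ≠ s 5 ∧ s 3 ≠ s 5)))) →
      ∃ b, nv s = fr second b := by decide +kernel

theorem tri_distinct : ∀ x y z : K4, x ≠ 0 → y ≠ 0 → z ≠ 0 → x ^ 2 + y ^ 2 + z ^ 2 = 0 →
    x ≠ y ∧ y ≠ z ∧ x ≠ z := by decide +kernel

theorem tri_solve : ∀ p q r : K4, p ≠ q → q ≠ r → p ≠ r → p ≠ 0 → q ≠ 0 → r ≠ 0 → ∀ u v w : K4,
    u + v + w = 0 → u * p ^ 2 + v * q ^ 2 + w * r ^ 2 = 0 → u * p ^ 4 + v * q ^ 4 + w * r ^ 4 = 0 →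
    u = 0 ∧ v = 0 ∧ w = 0 := by decide +kernel

theorem cast_odd : ∀ n : ℕ, (n : K4) = 1 → n % 2 = 1 := by
  intro n h
  by_contra hn
  obtain ⟨m, rfl⟩ : 2 ∣ n := Nat.dvd_of_mod_eq_zero (by omega)
  rw [Nat.cast_mul, show ((2 : ℕ) : K4) = 0 from by rw [Nat.cast_two, ← one_add_one_eq_two]; exact K4.add_self 1, zero_mul] at h
  exact zero_ne_one h

theorem herm_self (v : V6) : Cfsg.hermForm 6 K4 2 v v = ((supp v).card : K4) := by
  rw [supp, Finset.natCast_card_filter]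
  refine Finset.sum_congr rfl fun k _ => ?_
  split_ifs with h
  · exact cube_ne_zero h
  · rw [not_not.1 h]; ring

theorem odd_supp {v : V6} (h : Cfsg.hermForm 6 K4 2 v v = 1) : (supp v).card % 2 = 1 :=
  cast_odd _ (by rw [← herm_self, h])

theorem sum_supp {v x : V6} {T : Finset (Fin 6)} (hT : ∀ k, k ∉ T → v k = 0 ∨ x k = 0) :
    Cfsg.hermForm 6 K4 2 x v = ∑ k ∈ T, x k * v k ^ 2 := by
  rw [Cfsg.hermForm, ← Finset.sum_subset (Finset.subset_univ T)]
  intro k _ hk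
  rcases hT k hk with h | h <;> rw [h] <;> ring

/-- Two orthogonal points with the same triple differ by distinct scalars. -/
theorem ratio_distinct {v : V6} {i j k : Fin 6} (hij : i ≠ j) (hik : i ≠ k) (hjk : j ≠ k)
    (hs : supp v = {i, j, k}) {d : V6} (hi : d i ≠ 0) (hj : d j ≠ 0) (hk : d k ≠ 0)
    (h : Cfsg.hermForm 6 K4 2 v (fun t => d t * v t) = 0) : d i ≠ d j ∧ d j ≠ d k ∧ d i ≠ d k := by
  have hv : ∀ t ∈ ({i, j, k} : Finset (Fin 6)), v t ≠ 0 := fun t ht => mem_supp.1 (hs ▸ ht)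
  rw [sum_supp (T := {i, j, k}) (fun t ht => Or.inr (not_not.1 fun e => ht (hs ▸ mem_supp.2 e))),
    Finset.sum_insert (by simp [hij, hik]), Finset.sum_pair hjk] at h
  refine tri_distinct _ _ _ hi hj hk ?_
  linear_combination h - d i ^ 2 * cube_ne_zero (hv i (by simp)) - d j ^ 2 * cube_ne_zero (hv j (by simp)) -
    d k ^ 2 * cube_ne_zero (hv k (by simp))

/-- A point orthogonal to three points on a triple avoids the triple. -/
theorem zero_of_orth {v x d : V6} {i j k : Fin 6} (hij : i ≠ j) (hik : i ≠ k) (hjk : j ≠ k)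
    (hs : supp v = {i, j, k}) (hd : ∀ t, d t ≠ 0) (hdd : d i ≠ d j ∧ d j ≠ d k ∧ d i ≠ d k)
    (h0 : Cfsg.hermForm 6 K4 2 x v = 0) (h1 : Cfsg.hermForm 6 K4 2 x (fun t => d t * v t) = 0)
    (h2 : Cfsg.hermForm 6 K4 2 x (fun t => d t * (d t * v t)) = 0) : ∀ t ∈ supp v, x t = 0 := by
  have hz : ∀ (e : V6) t, t ∉ ({i, j, k} : Finset (Fin 6)) → e t * v t = 0 ∨ x t = 0 := fun e t ht =>
    Or.inl (by rw [not_not.1 fun h => ht (hs ▸ mem_supp.2 h), mul_zero])
  rw [sum_supp (T := {i, j, k}) (fun t ht => by simpa using hz 1 t ht),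
    Finset.sum_insert (by simp [hij, hik]), Finset.sum_pair hjk] at h0
  rw [sum_supp (T := {i, j, k}) (hz d),
    Finset.sum_insert (by simp [hij, hik]), Finset.sum_pair hjk] at h1
  rw [sum_supp (T := {i, j, k}) (fun t ht => by simpa [mul_assoc] using hz (d * d) t ht),
    Finset.sum_insert (by simp [hij, hik]), Finset.sum_pair hjk] at h2
  obtain ⟨e1, e2, e3⟩ := tri_solve _ _ _ hdd.1 hdd.2.1 hdd.2.2 (hd i) (hd j) (hd k) (x i * v i ^ 2) (x j * v j ^ 2)
    (x k * v k ^ 2) (by linear_combination h0) (by linear_combination h1) (by linear_combination h2)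
  intro t ht
  have hv := mem_supp.1 ht
  rw [hs] at ht
  simp only [Finset.mem_insert, Finset.mem_singleton] at ht
  rcases ht with rfl | rfl | rfl
  · exact (mul_eq_zero.1 e1).resolve_right (pow_ne_zero 2 hv)
  · exact (mul_eq_zero.1 e2).resolve_right (pow_ne_zero 2 hv)
  · exact (mul_eq_zero.1 e3).resolve_right (pow_ne_zero 2 hv)

end Cfsg.Agent.U43InU62
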