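import Cfsg.Agent.Lib.U43InU62.Parabolic

/-!
Twisting by a diagonal of determinant different from one.
-/

set_option autoImplicit false
set_option maxRecDepth 100000

namespace Cfsg.Agent.U43InU62

open Cfsg.Agent.RigidGraph.He
open Matrix

/-- The diagonal multiplying the first coordinate. -/
def dl (c : K4) : V6 := fun k => if k = 0 then c else 1

theorem dl_ne {c : K4} (hc : c ≠ 0) (k : Fin 6) : dl c k ≠ 0 := by
  unfold dl; split_ifs <;> simp [hc]

theorem dl_mul (a b : K4) (k : Fin 6) : dl (a * b) k = dl a k * dl b k := by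
  unfold dl; split_ifs <;> simp

theorem dl_one (k : Fin 6) : dl 1 k = 1 := by unfold dl; split_ifs <;> rfl

theorem dl_inv (c : K4) (k : Fin 6) : dl c⁻¹ k = (dl c k)⁻¹ := by unfold dl; split_ifs <;> simp

/-- The twisted matrix. -/
def twMat (c : K4) (g : S6) : Matrix (Fin 6) (Fin 6) K4 :=
  Matrix.diagonal (dl c) * mat g * Matrix.diagonal (dl c⁻¹)

theorem twMat_mulVec (c : K4) (g : S6) (v : V6) :
    twMat c g *ᵥ v = fun k => dl c k * act g (fun j => dl c⁻¹ j * v j) k := by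
  rw [twMat, ← Matrix.mulVec_mulVec, ← Matrix.mulVec_mulVec]
  funext k
  rw [Matrix.mulVec_diagonal]
  rw [show Matrix.diagonal (dl c⁻¹) *ᵥ v = fun j => dl c⁻¹ j * v j from
    funext fun j => Matrix.mulVec_diagonal _ _ _]
  rfl

theorem twMat_det {c : K4} (hc : c ≠ 0) (g : S6) : (twMat c g).det = 1 := by
  rw [twMat, Matrix.det_mul, Matrix.det_mul, Matrix.det_diagonal, Matrix.det_diagonal,
    show (mat g).det = 1 from g.1.2, mul_one, ← Finset.prod_mul_distrib]
  exact Finset.prod_eq_one fun k _ => by rw [dl_inv, mul_inv_cancel₀ (dl_ne hc k)]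

theorem herm_dl {c : K4} (hc : c ≠ 0) (u v : V6) :
    Cfsg.hermForm 6 K4 2 (fun k => dl c k * u k) (fun k => dl c k * v k) = Cfsg.hermForm 6 K4 2 u v := by
  refine Finset.sum_congr rfl fun k _ => ?_
  linear_combination (u k * v k ^ 2) * cube_ne_zero (dl_ne hc k)

/-- The twisted element. -/
def tw {c : K4} (hc : c ≠ 0) (g : S6) : S6 :=
  ⟨⟨twMat c g, twMat_det hc g⟩, fun u v => by
    show Cfsg.hermForm 6 K4 2 (twMat c g *ᵥ u) (twMat c g *ᵥ v) = _
    rw [twMat_mulVec, twMat_mulVec, herm_dl hc, herm_act, herm_dl (inv_ne_zero hc)]⟩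

theorem act_tw {c : K4} (hc : c ≠ 0) (g : S6) (v : V6) :
    act (tw hc g) v = fun k => dl c k * act g (fun j => dl c⁻¹ j * v j) k := twMat_mulVec c g v

theorem tw_ext {g h : S6} (e : ∀ v, act g v = act h v) : g = h := ext_bv fun j => e _

theorem dl_cancel {a : K4} (ha : a ≠ 0) (v : V6) : (fun j => dl a⁻¹ j * (dl a j * v j)) = v :=
  funext fun j => by rw [dl_inv, inv_mul_cancel_left₀ (dl_ne ha j)]

theorem tw_mul {c : K4} (hc : c ≠ 0) (g h : S6) : tw hc (g * h) = tw hc g * tw hc h :=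
  tw_ext fun v => by rw [act_mul, act_tw, act_tw, act_tw, dl_cancel hc, act_mul]

theorem tw_one_arg (g : S6) (h1 : (1 : K4) ≠ 0) : tw h1 g = g :=
  tw_ext fun v => by rw [act_tw]; simp [dl_one, inv_one]

theorem tw_tw {a b : K4} (ha : a ≠ 0) (hb : b ≠ 0) (g : S6) : tw ha (tw hb g) = tw (mul_ne_zero ha hb) g :=
  tw_ext fun v => by
    rw [act_tw, act_tw, act_tw]
    funext k
    rw [dl_mul, mul_assoc, show (fun j => dl b⁻¹ j * (dl a⁻¹ j * v j)) = fun j => dl (a * b)⁻¹ j * v j from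
      funext fun j => by rw [_root_.mul_inv_rev, dl_mul]; ring]

theorem tw_congr {a b : K4} (ha : a ≠ 0) (hb : b ≠ 0) (e : a = b) (g : S6) : tw ha g = tw hb g := by subst e; rfl

/-- Twisting as an automorphism. -/
def twAut {c : K4} (hc : c ≠ 0) : S6 ≃* S6 where
  toFun := tw hc
  invFun := tw (inv_ne_zero hc)
  left_inv g := by rw [tw_tw, tw_congr _ one_ne_zero (inv_mul_cancel₀ hc), tw_one_arg]
  right_inv g := by rw [tw_tw, tw_congr _ one_ne_zero (mul_inv_cancel₀ hc), tw_one_arg]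
  map_mul' := tw_mul hc

theorem tw_mel {c : K4} (hc : c ≠ 0) (π : Equiv.Perm (Fin 6)) (d : Dg) : ∃ d', tw hc (mel π d) = mel π d' := by
  refine ⟨⟨fun j => dl c (π j) * d.1 j * (dl c j)⁻¹,
    fun j => mul_ne_zero (mul_ne_zero (dl_ne hc _) (d.2.1 j)) (inv_ne_zero (dl_ne hc j)), ?_⟩, ext_bv fun j => ?_⟩
  · rw [Finset.prod_mul_distrib, Finset.prod_mul_distrib, d.2.2, Equiv.prod_comp π (dl c), mul_one,
      ← Finset.prod_mul_distrib]
    exact Finset.prod_eq_one fun k _ => mul_inv_cancel₀ (dl_ne hc k)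
  · rw [act_tw, act_mel_bv, show (fun i => dl c⁻¹ i * bv j i) = dl c⁻¹ j • bv j from funext fun i => by
      by_cases h : i = j
      · subst h; rfl
      · simp [bv, h], act_smul, act_mel_bv]
    funext i
    simp only [Pi.smul_apply, smul_eq_mul, dl_inv]
    by_cases h : i = π j
    · subst h; ring
    · simp [bv, h]

/-- The twisted subgroup. -/
noncomputable def twS {c : K4} (hc : c ≠ 0) (H : Subgroup S6) : Subgroup S6 := H.map (twAut hc).toMonoidHom

theorem tw_mem {c : K4} (hc : c ≠ 0) {H : Subgroup S6} {g : S6} (hg : g ∈ H) : tw hc g ∈ twS hc H :=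
  Subgroup.mem_map_of_mem _ hg

theorem twS_monoSub_le {c : K4} (hc : c ≠ 0) (Q : Subgroup (Equiv.Perm (Fin 6))) : twS hc (monoSub Q) ≤ monoSub Q := by
  rintro _ ⟨g, hg, rfl⟩
  obtain ⟨π, hπ, d, rfl⟩ := mem_monoSub.1 hg
  obtain ⟨d', h⟩ := tw_mel hc π d
  exact mem_monoSub.2 ⟨π, hπ, d', h⟩

theorem twS_N0 {c : K4} (hc : c ≠ 0) : twS hc N0 = N0 :=
  Subgroup.eq_of_le_of_card_ge (twS_monoSub_le hc _) (by
    rw [twS, Subgroup.card_map_of_injective (twAut hc).injective])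

theorem Z_map (e : S6 ≃* S6) : Z.map e.toMonoidHom = Z := by
  ext x
  rw [Subgroup.mem_map_equiv]
  refine ⟨fun h => Subgroup.mem_center_iff.2 fun g => ?_, fun h => Subgroup.mem_center_iff.2 fun g => ?_⟩
  · simpa using congrArg e (Subgroup.mem_center_iff.1 h (e.symm g))
  · simpa using congrArg e.symm (Subgroup.mem_center_iff.1 h (e g))

/-- The covering of an image. -/
noncomputable def Param.map {K : Subgroup S6} (p : Param K) (e : S6 ≃* S6) : Param (K.map e.toMonoidHom) where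
  ρ := p.ρ.comp (e.subgroupMap K).symm.toMonoidHom
  surj := p.surj.comp (e.subgroupMap K).symm.surjective
  hZ := (Z_map e).ge.trans (Subgroup.map_mono p.hZ)
  ker := by
    ext x
    obtain ⟨y, rfl⟩ := (e.subgroupMap K).surjective x
    change p.ρ ((e.subgroupMap K).symm ((e.subgroupMap K) y)) = 1 ↔ (e y.1) ∈ Z
    rw [(e.subgroupMap K).symm_apply_apply, ← MonoidHom.mem_ker, p.ker, Subgroup.mem_subgroupOf]
    exact (Subgroup.mem_map_iff_mem (f := e.toMonoidHom) e.injective).symm.trans (by rw [Z_map e]; rfl)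

theorem Param.pre_map {K : Subgroup S6} (p : Param K) (e : S6 ≃* S6) (S : Subgroup ↥Gen) :
    (p.map e).pre S = (p.pre S).map e.toMonoidHom := by
  ext x
  constructor
  · intro hx
    obtain ⟨h, hS⟩ := (p.map e).mem_pre.1 hx
    obtain ⟨y, hy, rfl⟩ := h
    refine Subgroup.mem_map_of_mem _ (p.mem_pre.2 ⟨hy, ?_⟩)
    have : (e.subgroupMap K).symm ⟨e y, ⟨y, hy, rfl⟩⟩ = ⟨y, hy⟩ := (e.subgroupMap K).symm_apply_eq.2 rfl
    change p.ρ ((e.subgroupMap K).symm ⟨e y, ⟨y, hy, rfl⟩⟩) ∈ S at hS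
    rwa [this] at hS
  · rintro ⟨y, hy, rfl⟩
    obtain ⟨h, hS⟩ := p.mem_pre.1 hy
    refine (p.map e).mem_pre.2 ⟨⟨y, h, rfl⟩, ?_⟩
    have : (e.subgroupMap K).symm ⟨e y, ⟨y, h, rfl⟩⟩ = ⟨y, h⟩ := (e.subgroupMap K).symm_apply_eq.2 rfl
    change p.ρ ((e.subgroupMap K).symm ⟨e y, ⟨y, h, rfl⟩⟩) ∈ S
    rwa [this]

end Cfsg.Agent.U43InU62
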