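import Cfsg.Agent.Lib.U43InU62.Points
import Cfsg.Agent.Lib.U43InU62.Twist

/-!
A frame whose stabiliser in the even monomial group has order 2916 consists of two disjoint triples.
-/

set_option autoImplicit false
set_option maxRecDepth 100000

namespace Cfsg.Agent.U43InU62

open Cfsg.Agent.RigidGraph.He
open Matrix

variable {h : S6} {M : Subgroup S6}

theorem orth (h : S6) {a b : Fin 6} (hab : a ≠ b) :
    Cfsg.hermForm 6 K4 2 (act h (bv a)) (act h (bv b)) = 0 := by
  rw [herm_act]
  exact Finset.sum_eq_zero fun k _ => by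
    by_cases hk : k = a
    · subst hk; simp [bv, hab]
    · simp [bv, hk]

theorem unit (h : S6) (a : Fin 6) : Cfsg.hermForm 6 K4 2 (act h (bv a)) (act h (bv a)) = 1 := by
  rw [herm_act, Cfsg.hermForm, Finset.sum_eq_single a (fun k _ hk => by simp [bv, hk]) (fun h => absurd (Finset.mem_univ a) h)]
  simp [bv]

theorem triple_data (hM : M ≤ N0) (hcard : Nat.card ↥M = 2916) (hconj : ∀ n ∈ M, h⁻¹ * n * h ∈ Nall)
    (a : Fin 6) : (supp (act h (bv a))).card = 1 ∨ ((supp (act h (bv a))).card = 3 ∧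
      ∃ i j k b e, ∃ d : V6, i ≠ j ∧ i ≠ k ∧ j ≠ k ∧ supp (act h (bv a)) = {i, j, k} ∧ (∀ t, d t ≠ 0) ∧
        (d i ≠ d j ∧ d j ≠ d k ∧ d i ≠ d k) ∧ b ≠ a ∧ e ≠ a ∧ b ≠ e ∧
        (∃ c : K4, c ≠ 0 ∧ act h (bv b) = c • fun t => d t * act h (bv a) t) ∧
        (∃ c : K4, c ≠ 0 ∧ act h (bv e) = c • fun t => d t * (d t * act h (bv a) t))) := by
  classical
  have : Fact (Nat.Prime 3) := ⟨Nat.prime_three⟩
  obtain ⟨Q, hQ⟩ := Sylow.exists_subgroup_card_pow_prime (G := ↥M) (p := 3) (n := 6)
    (by rw [hcard]; norm_num)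
  -- the diagonal part
  let q0 : ↥Q →* Equiv.Perm (Fin 6) := pr.comp ((Subgroup.inclusion (hM.trans (monoSub_le _))).comp Q.subtype)
  have hQd : 81 ≤ Nat.card ↥q0.ker := by
    have hc := Subgroup.card_eq_card_quotient_mul_card_subgroup q0.ker
    rw [Nat.card_congr (QuotientGroup.quotientKerEquivRange q0).toEquiv, hQ] at hc
    have hle : q0.range ≤ alternatingGroup (Fin 6) := by
      rintro _ ⟨⟨⟨g, hg⟩, hq⟩, rfl⟩
      obtain ⟨π, hπ, d, rfl⟩ := mem_N0.1 (hM hg)
      show pr ⟨mel π d, _⟩ ∈ _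
      rw [pr_mel]
      exact Equiv.Perm.mem_alternatingGroup.2 hπ
    have h1 := Subgroup.card_dvd_of_le hle
    rw [card_alt] at h1
    obtain ⟨k, hk, hk'⟩ := (Nat.dvd_prime_pow Nat.prime_three).1 (Dvd.intro _ hc.symm : Nat.card ↥q0.range ∣ 3 ^ 6)
    rw [hk'] at h1 hc
    have : k ≤ 2 := by
      by_contra hk3
      exact absurd ((pow_dvd_pow 3 (show 3 ≤ k by omega)).trans h1) (by norm_num)
    interval_cases k <;> omega
  let S := q0.ker
  have hS : IsPGroup 3 ↥S := (IsPGroup.of_card (n := 6) hQ).to_subgroup S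
  have hdiag : ∀ s : ↥S, ∃ d : Dg, s.1.1.1 = mel 1 d := fun s => by
    obtain ⟨π, d, e⟩ := monoSub_le _ (hM s.1.1.2)
    have hs : q0 s.1 = 1 := s.2
    refine ⟨d, ?_⟩
    have : π = 1 := by
      rw [← hs, ← pr_mel π d]
      exact congrArg pr (Subtype.ext e.symm)
    rw [e, this]
  choose dd hdd using hdiag
  let φ : ↥S →* ↥Nall :=
    { toFun := fun s => ⟨h⁻¹ * s.1.1.1 * h, hconj _ s.1.1.2⟩
      map_one' := Subtype.ext (by simp)
      map_mul' := fun s t => Subtype.ext (by simp [mul_assoc]) }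
  let act6 : ↥S →* Equiv.Perm (Fin 6) := pr.comp φ
  have hline : ∀ (s : ↥S) (x : Fin 6), ∃ c : K4, c ≠ 0 ∧
      (fun t => (dd s).1 t * act h (bv x) t) = c • act h (bv (act6 s x)) := fun s x => by
    obtain ⟨π, d, e⟩ := (φ s).2
    refine ⟨d.1 x, d.2.1 x, ?_⟩
    have hπ : act6 s = π := by
      show pr (φ s) = π
      rw [← pr_mel π d]; exact congrArg pr (Subtype.ext e)
    have e' : s.1.1.1 * h = h * mel π d := by
      rw [← e]; show _ = h * (h⁻¹ * s.1.1.1 * h); group
    calc (fun t => (dd s).1 t * act h (bv x) t) = act (s.1.1.1 * h) (bv x) := by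
          rw [act_mul, hdd]; funext t; exact (act_mel 1 _ _ t).symm
      _ = _ := by rw [e', act_mul, act_mel_bv, act_smul, hπ]
  let _ := MulAction.compHom (Fin 6) act6
  set T := supp (act h (bv a)) with hT
  have hstab : Nat.card ↥(MulAction.stabilizer ↥S a) ≤ (Finset.univ.filter (ConstOn T)).card := by
    refine (Nat.card_le_card_of_injective (fun s => (⟨dd s.1, fun i hi j hj => ?_⟩ : {d // ConstOn T d})) fun x y e => ?_).trans
      (le_of_eq (by rw [Nat.card_eq_fintype_card, Fintype.card_subtype]))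
    · obtain ⟨c, -, e⟩ := hline s.1 a
      rw [show act6 s.1 a = a from s.2] at e
      have ei : (dd s.1).1 i * act h (bv a) i = c * act h (bv a) i := congrFun e i
      have ej : (dd s.1).1 j * act h (bv a) j = c * act h (bv a) j := congrFun e j
      exact (mul_right_cancel₀ (mem_supp.1 hi) ei).trans (mul_right_cancel₀ (mem_supp.1 hj) ej).symm
    · have e' : dd x.1 = dd y.1 := congrArg Subtype.val e
      exact Subtype.ext (Subtype.ext (Subtype.ext (Subtype.ext (by rw [hdd, hdd, e']))))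
  have horb := Nat.card_congr (MulAction.orbitEquivQuotientStabilizer ↥S a)
  have hcm := Subgroup.card_eq_card_quotient_mul_card_subgroup (MulAction.stabilizer ↥S a)
  rw [← horb] at hcm
  have ho6 : Nat.card ↥(MulAction.orbit ↥S a) ≤ 6 :=
    (Nat.card_le_card_of_injective _ Subtype.val_injective).trans (le_of_eq (Nat.card_fin 6))
  obtain ⟨n, hn⟩ := (IsPGroup.iff_card.1 hS)
  obtain ⟨k, hk, hk'⟩ := (Nat.dvd_prime_pow Nat.prime_three).1 (Dvd.intro _ (hcm.symm.trans hn) : _ ∣ 3 ^ n)
  have hk1 : k ≤ 1 := by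
    by_contra hk2
    have := Nat.pow_le_pow_right (show 1 ≤ 3 by norm_num) (show 2 ≤ k by omega)
    omega
  have h27 : 27 ≤ (Finset.univ.filter (ConstOn T)).card := by
    refine le_trans ?_ hstab
    have : (81 : ℕ) ≤ Nat.card ↥S := hQd
    rw [hk'] at hcm
    interval_cases k <;> omega
  rcases const_count T (odd_supp (unit h a)) h27 with hT1 | ⟨hT3, h27'⟩
  · exact Or.inl hT1
  refine Or.inr ⟨hT3, ?_⟩
  obtain ⟨s, hs⟩ : ∃ s : ↥S, act6 s a ≠ a := by
    by_contra hall
    push Not at hall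
    have htop : MulAction.stabilizer ↥S a = ⊤ := eq_top_iff.2 fun s _ => hall s
    rw [htop, Subgroup.card_top, h27'] at hstab
    have : (81 : ℕ) ≤ Nat.card ↥S := hQd
    omega
  obtain ⟨i, j, l, hij, hil, hjl, hTs⟩ := Finset.card_eq_three.1 hT3
  obtain ⟨c, hc, e1⟩ := hline s a
  have hd := (dd s).2.1
  have horth : ∀ {x : Fin 6} {c : K4} {f : V6}, x ≠ a → f = c • act h (bv x) →
      Cfsg.hermForm 6 K4 2 (act h (bv a)) f = 0 := fun {x c f} hx e => by
    rw [e, ← act_smul, herm_act]
    exact Finset.sum_eq_zero fun k _ => by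
      by_cases hk : k = a
      · subst hk; simp [bv, hx]
      · simp [bv, hk]
  have hdis := ratio_distinct hij hil hjl hTs (hd i) (hd j) (hd l) (horth hs e1)
  obtain ⟨c', hc', e2⟩ := hline s (act6 s a)
  have hb2 : act6 s (act6 s a) ≠ act6 s a := fun e => hs ((act6 s).injective e)
  have e3 : (fun t => (dd s).1 t * ((dd s).1 t * act h (bv a) t)) = (c * c') • act h (bv (act6 s (act6 s a))) := by
    funext t
    rw [congrFun e1 t, Pi.smul_apply, smul_eq_mul, ← mul_assoc, mul_comm ((dd s).1 t) c, mul_assoc, congrFun e2 t,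
      Pi.smul_apply, Pi.smul_apply, smul_eq_mul, smul_eq_mul, mul_assoc]
  have hea : act6 s (act6 s a) ≠ a := fun e => by
    rw [e] at e3
    have hv : ∀ t ∈ T, act h (bv a) t ≠ 0 := fun t ht => mem_supp.1 ht
    have hsq : ∀ t ∈ T, (dd s).1 t * (dd s).1 t = c * c' := fun t ht =>
      mul_right_cancel₀ (hv t ht) ((mul_assoc _ _ _).trans (congrFun e3 t))
    refine hdis.1 ((show ∀ x y : K4, x * x = y * y → x = y by decide) _ _ ?_)
    rw [hsq i (by rw [hTs]; simp), hsq j (by rw [hTs]; simp)]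
  exact ⟨i, j, l, act6 s a, act6 s (act6 s a), (dd s).1, hij, hil, hjl, hTs, hd, hdis, hs, hea, hb2.symm,
    ⟨c⁻¹, inv_ne_zero hc, eq_smul_inv hc e1⟩,
    ⟨(c * c')⁻¹, inv_ne_zero (mul_ne_zero hc hc'), eq_smul_inv (mul_ne_zero hc hc') e3⟩⟩

theorem supp_smul {c : K4} (hc : c ≠ 0) (v : V6) : supp (c • v) = supp v := by
  ext t; simp [supp, hc]

theorem supp_diag {d : V6} (hd : ∀ t, d t ≠ 0) (v : V6) : supp (fun t => d t * v t) = supp v := by
  ext t; simp [supp, hd t]

/-- The frame consists of two disjoint triples. -/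
theorem two_triples (hM : M ≤ N0) (hcard : Nat.card ↥M = 2916) (hconj : ∀ n ∈ M, h⁻¹ * n * h ∈ Nall)
    (hh : h ∉ Nall) : ∃ T : Finset (Fin 6), T.card = 3 ∧ (∃ a, supp (act h (bv a)) = T) ∧
      (∃ b, supp (act h (bv b)) = Finset.univ \ T) ∧
      ∀ x, supp (act h (bv x)) = T ∨ supp (act h (bv x)) = Finset.univ \ T := by
  classical
  have hdata := triple_data hM hcard hconj
  -- three points on every triple; the others avoid it
  have key : ∀ a, (supp (act h (bv a))).card = 3 →
      3 ≤ (Finset.univ.filter fun x => supp (act h (bv x)) = supp (act h (bv a))).card ∧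
      ∀ x, supp (act h (bv x)) = supp (act h (bv a)) ∨ Disjoint (supp (act h (bv x))) (supp (act h (bv a))) := by
    intro a ha
    obtain ⟨-, i, j, k, b, e, d, hij, hik, hjk, hT, hd, hdd, hba, hea, hbe, ⟨c, hc, eb⟩, ⟨c', hc', ee⟩⟩ :=
      (hdata a).resolve_left (by omega)
    have sb : supp (act h (bv b)) = supp (act h (bv a)) := by rw [eb, supp_smul hc, supp_diag hd]
    have se : supp (act h (bv e)) = supp (act h (bv a)) := by rw [ee, supp_smul hc', supp_diag hd, supp_diag hd]
    refine ⟨?_, fun x => ?_⟩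
    · refine le_trans (le_of_eq ?_) (Finset.card_le_card (s := {a, b, e}) fun t ht => ?_)
      · exact (Finset.card_eq_three.2 ⟨a, b, e, hba.symm, hea.symm, hbe, rfl⟩).symm
      · simp only [Finset.mem_insert, Finset.mem_singleton] at ht
        rcases ht with rfl | rfl | rfl <;> simp [sb, se]
    · by_cases hx : x = a
      · exact Or.inl (by rw [hx])
      by_cases hxb : x = b
      · exact Or.inl (by rw [hxb, sb])
      by_cases hxe : x = e
      · exact Or.inl (by rw [hxe, se])
      refine Or.inr (Finset.disjoint_right.2 fun t ht hxt => mem_supp.1 hxt ?_)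
      have hsc : ∀ {y : Fin 6} {c : K4} {f : V6}, c ≠ 0 → x ≠ y → act h (bv y) = c • f →
          Cfsg.hermForm 6 K4 2 (act h (bv x)) f = 0 := fun {y c f} hc hxy ef => by
        rw [eq_smul_inv hc ef, ← act_smul, herm_act]
        exact Finset.sum_eq_zero fun t _ => by
          by_cases ht : t = x
          · subst ht; simp [bv, hxy]
          · simp [bv, ht]
      exact zero_of_orth hij hik hjk hT hd hdd (orth h hx) (hsc hc hxb eb) (hsc hc' hxe ee) t ht
  obtain ⟨a, ha⟩ : ∃ a, (supp (act h (bv a))).card = 3 := by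
    by_contra hall
    push Not at hall
    refine hh (exists_mel fun j => ?_)
    obtain ⟨i, hi⟩ := Finset.card_eq_one.1 ((hdata j).resolve_right fun e => hall j e.1)
    refine ⟨i, act h (bv j) i, funext fun k => ?_⟩
    by_cases hk : k = i
    · subst hk; simp [bv]
    · have hk' : k ∉ supp (act h (bv j)) := by rw [hi]; simpa using hk
      rw [mem_supp, not_not] at hk'
      simp only [bv] at hk' ⊢
      rw [hk', Pi.smul_apply, smul_eq_mul, Pi.single_eq_of_ne (M := fun _ => K4) hk, mul_zero]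
  set T := supp (act h (bv a)) with hT
  by_cases hother : ∃ b, (supp (act h (bv b))).card = 3 ∧ supp (act h (bv b)) ≠ T
  · obtain ⟨b, hb, hbT⟩ := hother
    have hbc : supp (act h (bv b)) = Finset.univ \ T := by
      refine Finset.eq_of_subset_of_card_le (fun t ht => Finset.mem_sdiff.2 ⟨Finset.mem_univ _,
        Finset.disjoint_left.1 (((key a ha).2 b).resolve_left hbT) ht⟩) ?_
      rw [Finset.card_univ_diff, Fintype.card_fin, ha, hb]
    refine ⟨T, ha, ⟨a, rfl⟩, ⟨b, hbc⟩, fun x => ?_⟩
    by_contra hx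
    push Not at hx
    have h1 := (key a ha).1
    have h2 := (key b hb).1
    rw [hbc] at h2
    have h3 := Finset.card_le_card (s := (Finset.univ.filter fun y => supp (act h (bv y)) = T) ∪
      (Finset.univ.filter fun y => supp (act h (bv y)) = Finset.univ \ T)) (t := Finset.univ.erase x) (fun y hy => by
      refine Finset.mem_erase.2 ⟨fun e => ?_, Finset.mem_univ _⟩
      simp only [Finset.mem_union, Finset.mem_filter, Finset.mem_univ, true_and, e] at hy
      rcases hy with hy | hy
      · exact hx.1 hy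
      · exact hx.2 hy)
    rw [Finset.card_union_of_disjoint (Finset.disjoint_filter.2 fun y _ e1 e2 => hbT (by rw [hbc, ← e2, e1])),
      Finset.card_erase_of_mem (Finset.mem_univ x), Finset.card_univ, Fintype.card_fin] at h3
    rw [← hT] at h1
    omega
  · exfalso
    push Not at hother
    let q : ↥M →* Equiv.Perm (Fin 6) := pr.comp (Subgroup.inclusion (hM.trans (monoSub_le _)))
    have hk : Nat.card ↥q.ker ∣ 243 := by
      rw [← card_Ad, Nat.card_congr (Subgroup.equivMapOfInjective q.ker M.subtype M.subtype_injective).toEquiv]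
      refine Subgroup.card_dvd_of_le ?_
      rintro _ ⟨⟨g, hg⟩, hq, rfl⟩
      obtain ⟨π, d, rfl⟩ := monoSub_le _ (hM hg)
      have : pr ⟨mel π d, mel_mem π d⟩ = 1 := hq
      rw [pr_mel] at this
      subst this
      exact mem_Ad.2 ⟨d, rfl⟩
    let St : Subgroup (Equiv.Perm (Fin 6)) :=
      finSub
        { carrier := {π | Equiv.Perm.sign π = 1 ∧ ∀ k ∈ T, π k ∈ T}
          one_mem' := ⟨map_one _, fun k hk => hk⟩
          mul_mem' := fun {x y} hx hy => ⟨by rw [map_mul, hx.1, hy.1, one_mul], fun k hk => hx.2 _ (hy.2 k hk)⟩ }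
    have hSt : Nat.card ↥St = 18 := by
      rw [← triple_stab T ha, ← Nat.card_eq_finsetCard]
      exact Nat.card_congr (Equiv.subtypeEquivRight fun x => by simp [St, finSub])
    have hr : q.range ≤ St := by
      rintro _ ⟨⟨g, hg⟩, rfl⟩
      obtain ⟨π, hπ, d, rfl⟩ := mem_N0.1 (hM hg)
      show pr ⟨mel π d, _⟩ ∈ St
      rw [pr_mel]
      refine ⟨hπ, fun k hk => ?_⟩
      obtain ⟨π', d', e⟩ := hconj _ hg
      have he : act (mel π d) (act h (bv a)) = d'.1 a • act h (bv (π' a)) := by
        rw [← act_mul, show mel π d * h = h * mel π' d' by rw [← e]; group, act_mul, act_mel_bv, act_smul]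
      have hs : supp (act h (bv (π' a))) = T.image π := by
        rw [← supp_smul (d'.2.1 a), ← he]
        ext t
        rw [mem_supp, act_mel, Finset.mem_image, mul_ne_zero_iff]
        constructor
        · exact fun ht => ⟨π.symm t, mem_supp.2 ht.2, π.apply_symm_apply t⟩
        · rintro ⟨u, hu, rfl⟩; rw [π.symm_apply_apply]; exact ⟨d.2.1 _, mem_supp.1 hu⟩
      have := hother (π' a) (by rw [hs, Finset.card_image_of_injective _ π.injective, ha])
      rw [hs] at this
      exact this ▸ Finset.mem_image_of_mem _ hk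
    have hr' := Subgroup.card_dvd_of_le hr
    rw [hSt] at hr'
    have hc := Subgroup.card_eq_card_quotient_mul_card_subgroup q.ker
    rw [Nat.card_congr (QuotientGroup.quotientKerEquivRange q).toEquiv, hcard] at hc
    have := Nat.mul_dvd_mul hr' hk
    rw [← hc] at this
    norm_num at this

end Cfsg.Agent.U43InU62
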