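import Cfsg.Agent.Lib.U43InU62.Frames

/-!
The monomial elements inside the copy of U4(3), and the outer swap.
-/

set_option autoImplicit false
set_option maxRecDepth 100000

namespace Cfsg.Agent.U43InU62

open Cfsg.Agent.RigidGraph.He
open Cfsg.Agent.PermCert
open Cfsg.Agent.SchurMult (u43Gens u43Derived u43Levels u43_cert u43_order)
open Matrix

/-- The permutations of the generators of the even monomial group. -/
def genPerm : Fin 8 → Equiv.Perm (Fin 6)
  | 5 => Equiv.swap 0 1 * Equiv.swap 1 2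
  | 6 => Equiv.swap 0 1 * Equiv.swap 1 2 * Equiv.swap 2 3 * Equiv.swap 3 4
  | 7 => Equiv.swap 3 4 * Equiv.swap 4 5
  | _ => 1

/-- The diagonals of the generators of the even monomial group. -/
def genDiag : Fin 8 → V6
  | 0 => ![.w, .v, 1, 1, 1, 1]
  | 1 => ![1, .w, .v, 1, 1, 1]
  | 2 => ![1, 1, .w, .v, 1, 1]
  | 3 => ![1, 1, 1, .w, .v, 1]
  | 4 => ![1, 1, 1, 1, .w, .v]
  | _ => 1

theorem genDiag_adm : ∀ k, Adm (genDiag k) := by decide +kernel

/-- The generators of the even monomial group. -/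
def gel (k : Fin 8) : S6 := mel (genPerm k) ⟨genDiag k, genDiag_adm k⟩

/-- Their codes. -/
def gcode (k : Fin 8) : Elt := genCodes.getD k (one 7 112)

theorem gen_checks : ∀ k : Fin 8, validElt 7 112 (gcode k) = true ∧ sift 7 112 u43Levels (gcode k).1 = true ∧
    MapsCode (monoMat (genPerm k) (genDiag k)) (gcode k) := by decide +kernel

theorem gel_moves (k : Fin 8) : Moves (gel k) (toPerm 7 112 (gcode k)) :=
  moves_of_code rfl (gen_checks k).1 (gen_checks k).2.2

theorem gel_mem (k : Fin 8) : gel k ∈ K0 :=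
  mem_K0_of_code rfl (gen_checks k).1 (gen_checks k).2.1 (gen_checks k).2.2

theorem sigma_checks : validElt 7 112 sigmaCode = true ∧
    MapsCode (monoMat (Equiv.swap 0 1) 1) sigmaCode := by decide +kernel

/-- The swap of two coordinates. -/
def sigma : S6 := mel (Equiv.swap 0 1) done

theorem sigma_moves : Moves sigma (toPerm 7 112 sigmaCode) :=
  moves_of_code rfl sigma_checks.1 sigma_checks.2

/-- The diagonal made of a power of one generator. -/
theorem mel_pow (d : Dg) : ∀ n : ℕ, ∃ e : Dg, mel 1 d ^ n = mel 1 e ∧ ∀ k, e.1 k = d.1 k ^ n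
  | 0 => ⟨done, by rw [pow_zero, mel_one], fun k => (pow_zero _).symm⟩
  | n + 1 => by
    obtain ⟨e, he, hk⟩ := mel_pow d n
    exact ⟨dmul 1 e d, by rw [pow_succ, he, mel_mul, one_mul], fun k => by
      show d.1 k * e.1 k = _
      rw [hk, pow_succ']⟩

/-- The exponent of an element. -/
def klog : K4 → ℕ
  | .w => 1 | .v => 2 | _ => 0

/-- The exponents of a diagonal. -/
def expo (d : V6) : Fin 5 → ℕ
  | 0 => klog (d 0)
  | 1 => klog (d 0 * d 1)
  | 2 => klog (d 0 * d 1 * d 2)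
  | 3 => klog (d 0 * d 1 * d 2 * d 3)
  | 4 => klog (d 0 * d 1 * d 2 * d 3 * d 4)

theorem expo_ok : ∀ d : Dg, ∀ k : Fin 6, d.1 k = genDiag 0 k ^ expo d.1 0 * genDiag 1 k ^ expo d.1 1 *
    genDiag 2 k ^ expo d.1 2 * genDiag 3 k ^ expo d.1 3 * genDiag 4 k ^ expo d.1 4 := by decide +kernel

theorem mel_diag_mul (a b : Dg) : ∃ c : Dg, mel 1 a * mel 1 b = mel 1 c ∧ ∀ k, c.1 k = a.1 k * b.1 k :=
  ⟨dmul 1 a b, by rw [mel_mul, one_mul], fun k => mul_comm _ _⟩

theorem diag_mem_of {H : Subgroup S6} (hH : ∀ k, gel k ∈ H) (d : Dg) : mel 1 d ∈ H := by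
  obtain ⟨e0, h0, k0⟩ := mel_pow ⟨genDiag 0, genDiag_adm 0⟩ (expo d.1 0)
  obtain ⟨e1, h1, k1⟩ := mel_pow ⟨genDiag 1, genDiag_adm 1⟩ (expo d.1 1)
  obtain ⟨e2, h2, k2⟩ := mel_pow ⟨genDiag 2, genDiag_adm 2⟩ (expo d.1 2)
  obtain ⟨e3, h3, k3⟩ := mel_pow ⟨genDiag 3, genDiag_adm 3⟩ (expo d.1 3)
  obtain ⟨e4, h4, k4⟩ := mel_pow ⟨genDiag 4, genDiag_adm 4⟩ (expo d.1 4)
  obtain ⟨c1, g1, l1⟩ := mel_diag_mul e0 e1
  obtain ⟨c2, g2, l2⟩ := mel_diag_mul c1 e2
  obtain ⟨c3, g3, l3⟩ := mel_diag_mul c2 e3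
  obtain ⟨c4, g4, l4⟩ := mel_diag_mul c3 e4
  have : d = c4 := Subtype.ext (funext fun k => by rw [expo_ok d k, l4, l3, l2, l1, k0, k1, k2, k3, k4])
  rw [this, ← g4, ← g3, ← g2, ← g1, ← h0, ← h1, ← h2, ← h3, ← h4]
  exact mul_mem (mul_mem (mul_mem (mul_mem (pow_mem (hH 0) _) (pow_mem (hH 1) _))
    (pow_mem (hH 2) _)) (pow_mem (hH 3) _)) (pow_mem (hH 4) _)

/-- The even permutations built along the tree. -/
def evList : List (Equiv.Perm (Fin 6)) :=
  treeEven.tail.foldl (fun L t => L ++ [genPerm (Fin.ofNat 8 (5 + t.2)) * L.getD t.1 1]) [1]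

/-- The code of a permutation. -/
def permCode (π : Equiv.Perm (Fin 6)) : ℕ :=
  (π 0 : ℕ) + 6 * (π 1 : ℕ) + 36 * (π 2 : ℕ) + 216 * (π 3 : ℕ) + 1296 * (π 4 : ℕ) + 7776 * (π 5 : ℕ)

theorem evList_nodup : (evList.map permCode).Nodup ∧ evList.length = 360 := by decide +kernel

theorem genPerm_sign : ∀ k, Equiv.Perm.sign (genPerm k) = 1 := by decide +kernel

theorem evList_mem {H : Subgroup S6} (hH : ∀ k, gel k ∈ H) :
    ∀ π ∈ evList, Equiv.Perm.sign π = 1 ∧ mel π done ∈ H := by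
  suffices ∀ (T : List (ℕ × ℕ)) (L : List (Equiv.Perm (Fin 6))),
      (∀ π ∈ L, Equiv.Perm.sign π = 1 ∧ mel π done ∈ H) →
      ∀ π ∈ T.foldl (fun L t => L ++ [genPerm (Fin.ofNat 8 (5 + t.2)) * L.getD t.1 1]) L,
        Equiv.Perm.sign π = 1 ∧ mel π done ∈ H from
    this _ _ (fun π hπ => by
      rw [List.mem_singleton.1 hπ, mel_one]; exact ⟨map_one _, one_mem _⟩)
  intro T
  induction T with
  | nil => exact fun L h => h
  | cons t T ih =>
    intro L h
    refine ih _ fun π hπ => ?_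
    rcases List.mem_append.1 hπ with hπ | hπ
    · exact h π hπ
    rw [List.mem_singleton.1 hπ]
    set q := L.getD t.1 1 with hq
    have hq' : Equiv.Perm.sign q = 1 ∧ mel q done ∈ H := by
      rcases Nat.lt_or_ge t.1 L.length with hl | hl
      · rw [hq, List.getD_eq_getElem _ _ hl]; exact h _ (List.getElem_mem hl)
      · rw [hq, List.getD_eq_default _ _ hl, mel_one]; exact ⟨map_one _, one_mem _⟩
    set k := Fin.ofNat 8 (5 + t.2)
    refine ⟨by rw [map_mul, genPerm_sign, hq'.1, one_mul], ?_⟩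
    have e : mel (genPerm k) done ∈ H := by
      have := mul_mem (hH k) (inv_mem (diag_mem_of hH ⟨genDiag k, genDiag_adm k⟩))
      have e' : mel (genPerm k) ⟨genDiag k, genDiag_adm k⟩ =
          mel (genPerm k) done * mel 1 ⟨genDiag k, genDiag_adm k⟩ := by
        rw [mel_mul, mul_one]
        exact congrArg _ (Subtype.ext (funext fun j => (mul_one _).symm))
      rwa [gel, e', mul_inv_cancel_right] at this
    have := mul_mem e hq'.2
    rwa [mel_mul, show dmul q done done = done from Subtype.ext (funext fun j => one_mul _)] at this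

theorem N0_le_of {H : Subgroup S6} (hH : ∀ k, gel k ∈ H) : N0 ≤ H := by
  classical
  intro g hg
  obtain ⟨π, hπ, d, rfl⟩ := mem_N0.1 hg
  have hL : evList.toFinset = Finset.univ.filter (fun π : Equiv.Perm (Fin 6) => Equiv.Perm.sign π = 1) := by
    refine Finset.eq_of_subset_of_card_le (fun x hx => Finset.mem_filter.2
      ⟨Finset.mem_univ _, (evList_mem hH x (List.mem_toFinset.1 hx)).1⟩) (le_of_eq ?_)
    rw [List.toFinset_card_of_nodup (evList_nodup.1.of_map _), evList_nodup.2, ← card_alt,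
      Nat.card_eq_fintype_card, Fintype.card_subtype]
    exact congrArg Finset.card (Finset.filter_congr fun x _ => Equiv.Perm.mem_alternatingGroup.symm)
  have hmem : π ∈ evList := List.mem_toFinset.1 (hL ▸ Finset.mem_filter.2 ⟨Finset.mem_univ _, hπ⟩)
  have := mul_mem (evList_mem hH π hmem).2 (diag_mem_of hH d)
  rwa [mel_mul, mul_one, show dmul 1 done d = d from Subtype.ext (funext fun j => mul_one _)] at this

theorem N0_le_K0 : N0 ≤ K0 := N0_le_of gel_mem

end Cfsg.Agent.U43InU62
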